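import Mathlib

/-!
Three term complexes of flat modules `U → V → W` tensored with a variable module.
-/

set_option autoImplicit false

noncomputable section

universe u

namespace Groth.Agent.FlatCx.ThreeTerm

open TensorProduct

variable {A : Type u} [CommRing A] {U V W : Type u} [AddCommGroup U] [Module A U] [AddCommGroup V]
  [Module A V] [AddCommGroup W] [Module A W]

/-- submodules with flat quotient stay injective after tensoring -/
theorem rTensor_subtype_injective (N : Submodule A W) [Module.Flat A (W ⧸ N)] (M : Type u)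
    [AddCommGroup M] [Module A M] : Function.Injective (N.subtype.rTensor M) := by
  rw [← LinearMap.lTensor_inj_iff_rTensor_inj]
  let q : (M →₀ A) →ₗ[A] M := Finsupp.linearCombination A id
  have hq : Function.Surjective q := fun m => ⟨Finsupp.single m 1, by simp [q]⟩
  have h1 : Function.Exact (LinearMap.ker q).subtype q := LinearMap.exact_subtype_ker_map q
  have h2 : Function.Injective ((LinearMap.ker q).subtype.rTensor (W ⧸ N)) :=
    Module.Flat.rTensor_preserves_injective_linearMap _ Subtype.val_injective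
  have h3 : Function.Injective (N.subtype.lTensor (M →₀ A)) :=
    Module.Flat.lTensor_preserves_injective_linearMap _ Subtype.val_injective
  refine lTensor_injective_of_exact_of_exact_of_rTensor_injective (M₁ := LinearMap.ker q) (M₂ := M →₀ A) (M₃ := M) (N₁ := N) (N₂ := W) (N₃ := W ⧸ N) h1 hq
    (LinearMap.exact_subtype_mkQ N) (Submodule.mkQ_surjective _) h2 h3

/-- kernels of surjections between flat modules are flat -/
theorem flat_submodule [Module.Flat A W] (N : Submodule A W) [Module.Flat A (W ⧸ N)] :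
    Module.Flat A N := by
  rw [Module.Flat.iff_lTensor_injective']
  intro I x y hxy
  apply rTensor_subtype_injective N I
  apply Module.Flat.lTensor_preserves_injective_linearMap (M := W) I.subtype Subtype.val_injective
  rw [← LinearMap.comp_apply, ← LinearMap.comp_apply, LinearMap.lTensor_comp_rTensor,
    ← LinearMap.rTensor_comp_lTensor, LinearMap.comp_apply, LinearMap.comp_apply, hxy]

/-- extensions of flat modules are flat -/
theorem flat_of_submodule (N : Submodule A W) [Module.Flat A N] [Module.Flat A (W ⧸ N)] :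
    Module.Flat A W := by
  rw [Module.Flat.iff_lTensor_injective']
  intro I
  rw [injective_iff_map_eq_zero]
  intro x hx
  have h1 : N.mkQ.rTensor I x = 0 := by
    apply Module.Flat.lTensor_preserves_injective_linearMap (M := W ⧸ N) I.subtype
      Subtype.val_injective
    rw [map_zero, ← LinearMap.comp_apply, LinearMap.lTensor_comp_rTensor,
      ← LinearMap.rTensor_comp_lTensor, LinearMap.comp_apply, hx, map_zero]
  obtain ⟨y, rfl⟩ := ((rTensor_exact I (LinearMap.exact_subtype_mkQ N) N.mkQ_surjective) x).mp h1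
  rw [← LinearMap.comp_apply, LinearMap.lTensor_comp_rTensor, ← LinearMap.rTensor_comp_lTensor,
    LinearMap.comp_apply] at hx
  have h2 : y = 0 := by
    apply Module.Flat.lTensor_preserves_injective_linearMap (M := N) I.subtype Subtype.val_injective
    apply rTensor_subtype_injective N A
    rw [hx, map_zero, map_zero]
  rw [h2, map_zero]

/-- the quotient of a flat module by `N` is flat as soon as `N ∩ I W ⊆ I N` -/
theorem flat_quotient_of_inf_le [Module.Flat A W] (N : Submodule A W)
    (h : ∀ I : Ideal A, I • ⊤ ⊓ N ≤ I • N) : Module.Flat A (W ⧸ N) := by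
  rw [Module.Flat.iff_lTensor_injective']
  intro I
  rw [injective_iff_map_eq_zero]
  intro x hx
  obtain ⟨y, rfl⟩ := LinearMap.rTensor_surjective I N.mkQ_surjective x
  let mW : W ⊗[A] I →ₗ[A] W := (TensorProduct.rid A W).toLinearMap ∘ₗ LinearMap.lTensor W I.subtype
  have hinj : Function.Injective mW := (TensorProduct.rid A W).injective.comp
    (Module.Flat.lTensor_preserves_injective_linearMap _ Subtype.val_injective)
  have h1 : mW y ∈ I • (⊤ : Submodule A W) := by
    clear hx
    induction y using TensorProduct.induction_on with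
    | zero => simp
    | tmul w i => simpa [mW] using Submodule.smul_mem_smul i.2 (Submodule.mem_top (x := w))
    | add a b ha hb => rw [map_add]; exact add_mem ha hb
  have h2 : mW y ∈ N := by
    rw [← Submodule.Quotient.mk_eq_zero]
    have key : ∀ z : W ⊗[A] I, N.mkQ (mW z) =
        TensorProduct.rid A (W ⧸ N) (LinearMap.lTensor _ I.subtype (LinearMap.rTensor I N.mkQ z)) := by
      intro z
      induction z using TensorProduct.induction_on with
      | zero => simp
      | tmul w i => simp [mW]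
      | add a b ha hb => simp only [map_add, ha, hb]
    exact (key y).trans (by rw [hx, map_zero])
  have h3 : mW y ∈ LinearMap.range (mW ∘ₗ LinearMap.rTensor I N.subtype) := by
    refine (?_ : I • N ≤ _) (h I ⟨h1, h2⟩)
    rw [Submodule.smul_le]
    intro i hi n hn
    exact ⟨⟨n, hn⟩ ⊗ₜ[A] ⟨i, hi⟩, by simp [mW]⟩
  obtain ⟨y', hy'⟩ := h3
  rw [← hinj hy', ← LinearMap.comp_apply, ← LinearMap.rTensor_comp,
    show N.mkQ ∘ₗ N.subtype = 0 from (LinearMap.exact_subtype_mkQ N).linearMap_comp_eq_zero]
  simp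

variable (f : U →ₗ[A] V) (g : V →ₗ[A] W)

/-- `M ↦ H(U ⊗ M → V ⊗ M → W ⊗ M)` preserves surjections along `h` -/
def SurjOn {M N : Type u} [AddCommGroup M] [Module A M] [AddCommGroup N] [Module A N]
    (h : M →ₗ[A] N) : Prop :=
  ∀ z : V ⊗[A] N, g.rTensor N z = 0 → ∃ z' : V ⊗[A] M, g.rTensor M z' = 0 ∧
    h.lTensor V z' - z ∈ LinearMap.range (f.rTensor N)

/-- `M ↦ H(U ⊗ M → V ⊗ M → W ⊗ M)` is injective along `h` -/
def InjOn {M N : Type u} [AddCommGroup M] [Module A M] [AddCommGroup N] [Module A N]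
    (h : M →ₗ[A] N) : Prop :=
  ∀ z : V ⊗[A] M, g.rTensor M z = 0 → h.lTensor V z ∈ LinearMap.range (f.rTensor N) →
    z ∈ LinearMap.range (f.rTensor M)

variable {f g}

theorem surjOn_of_flat [Module.Flat A (W ⧸ LinearMap.range g)] {M N : Type u} [AddCommGroup M]
    [Module A M] [AddCommGroup N] [Module A N] {h : M →ₗ[A] N} (hh : Function.Surjective h) :
    SurjOn f g h := by
  intro z hz
  have hz' : g.rangeRestrict.rTensor N z = 0 := by
    refine rTensor_subtype_injective (LinearMap.range g) N ?_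
    rw [← LinearMap.comp_apply, ← LinearMap.rTensor_comp, map_zero]
    exact hz
  obtain ⟨w, hw⟩ := ((rTensor_exact N (LinearMap.exact_subtype_ker_map g.rangeRestrict)
    g.surjective_rangeRestrict) z).mp hz'
  obtain ⟨w', rfl⟩ := LinearMap.lTensor_surjective _ hh w
  refine ⟨(LinearMap.ker g.rangeRestrict).subtype.rTensor M w', ?_, ?_⟩
  · rw [← LinearMap.comp_apply, ← LinearMap.rTensor_comp,
      show g ∘ₗ (LinearMap.ker g.rangeRestrict).subtype = 0 from LinearMap.ext fun v =>
        congrArg Subtype.val v.2]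
    simp
  · rw [← LinearMap.comp_apply, LinearMap.lTensor_comp_rTensor, ← hw, ← LinearMap.comp_apply,
      LinearMap.rTensor_comp_lTensor, sub_self]
    exact zero_mem _

theorem range_inf_le_of_surjOn (hgf : g ∘ₗ f = 0) (I : Ideal A)
    (H : SurjOn f g I.mkQ) :
    I • ⊤ ⊓ LinearMap.range g ≤ I • LinearMap.range g := by
  rintro _ ⟨hI, ⟨v, rfl⟩⟩
  have e : ∀ (X : Type u) [AddCommGroup X] [Module A X] (x : X),
      x ∈ I • (⊤ : Submodule A X) ↔ x ⊗ₜ[A] (Submodule.Quotient.mk 1 : A ⧸ I) = 0 := by
    intro X _ _ x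
    rw [← (TensorProduct.tensorQuotEquivQuotSMul X I).map_eq_zero_iff,
      show (Submodule.Quotient.mk 1 : A ⧸ I) = Ideal.Quotient.mk I 1 from rfl,
      TensorProduct.tensorQuotEquivQuotSMul_tmul_mk, one_smul, Submodule.Quotient.mk_eq_zero]
  obtain ⟨z', hz', a, ha⟩ := H (v ⊗ₜ[A] Submodule.Quotient.mk 1) (by
    simpa using (e W _).mp hI)
  obtain ⟨v', rfl⟩ : ∃ v', v' ⊗ₜ[A] (1 : A) = z' :=
    ⟨TensorProduct.rid A V z', (TensorProduct.rid A V).injective (by simp)⟩
  obtain ⟨u, rfl⟩ : ∃ u, u ⊗ₜ[A] (Submodule.Quotient.mk 1 : A ⧸ I) = a := by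
    obtain ⟨a', rfl⟩ := LinearMap.lTensor_surjective U I.mkQ_surjective a
    refine ⟨TensorProduct.rid A U a', ?_⟩
    conv_rhs => rw [← (TensorProduct.rid A U).symm_apply_apply a', TensorProduct.rid_symm_apply]
    rfl
  have hgv' : g v' = 0 := by
    simpa using congrArg (TensorProduct.rid A W) hz'
  simp only [LinearMap.rTensor_tmul, LinearMap.lTensor_tmul, Submodule.mkQ_apply] at ha
  have h2 : v' - v - f u ∈ I • (⊤ : Submodule A V) := by
    rw [e, TensorProduct.sub_tmul, TensorProduct.sub_tmul, sub_eq_zero]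
    exact ha.symm
  have h3 : g (v' - v - f u) ∈ I • LinearMap.range g := by
    rw [LinearMap.range_eq_map, ← Submodule.map_smul'']
    exact Submodule.mem_map_of_mem h2
  rwa [map_sub, map_sub, hgv', show g (f u) = 0 from LinearMap.congr_fun hgf u, zero_sub, sub_zero,
    Submodule.neg_mem_iff] at h3

theorem flat_of_surjOn [Module.Flat A W] (hgf : g ∘ₗ f = 0)
    (H : ∀ I : Ideal A, SurjOn f g I.mkQ) : Module.Flat A (W ⧸ LinearMap.range g) :=
  flat_quotient_of_inf_le _ fun I => range_inf_le_of_surjOn hgf I (H I)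

theorem injOn_of_flat [Module.Flat A (V ⧸ LinearMap.range f)] {M N : Type u} [AddCommGroup M]
    [Module A M] [AddCommGroup N] [Module A N] {h : M →ₗ[A] N} (hh : Function.Injective h) :
    InjOn f g h := by
  intro z _ hz
  have ex : ∀ (X : Type u) [AddCommGroup X] [Module A X],
      Function.Exact (f.rTensor X) ((LinearMap.range f).mkQ.rTensor X) := fun X _ _ =>
    rTensor_exact X (LinearMap.exact_map_mkQ_range f) (Submodule.mkQ_surjective _)
  refine (ex M z).mp (Module.Flat.lTensor_preserves_injective_linearMap h hh ?_)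
  rw [map_zero, ← LinearMap.comp_apply, LinearMap.lTensor_comp_rTensor,
    ← LinearMap.rTensor_comp_lTensor, LinearMap.comp_apply]
  exact (ex N _).mpr hz

theorem flat_of_injOn [Module.Flat A W] (hgf : g ∘ₗ f = 0)
    (H : ∀ I : Ideal A, InjOn f g I.subtype) : Module.Flat A (V ⧸ LinearMap.range f) := by
  rw [Module.Flat.iff_lTensor_injective']
  intro I
  rw [injective_iff_map_eq_zero]
  intro x hx
  have ex : ∀ (X : Type u) [AddCommGroup X] [Module A X],
      Function.Exact (f.rTensor X) ((LinearMap.range f).mkQ.rTensor X) := fun X _ _ =>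
    rTensor_exact X (LinearMap.exact_map_mkQ_range f) (Submodule.mkQ_surjective _)
  obtain ⟨z, rfl⟩ := LinearMap.rTensor_surjective I (LinearMap.range f).mkQ_surjective x
  rw [← LinearMap.comp_apply, LinearMap.lTensor_comp_rTensor, ← LinearMap.rTensor_comp_lTensor,
    LinearMap.comp_apply] at hx
  obtain ⟨a, ha⟩ := (ex A _).mp hx
  refine (ex I z).mpr (H I z ?_ ⟨a, ha⟩)
  apply Module.Flat.lTensor_preserves_injective_linearMap (M := W) I.subtype Subtype.val_injective
  rw [map_zero, ← LinearMap.comp_apply, LinearMap.lTensor_comp_rTensor,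
    ← LinearMap.rTensor_comp_lTensor, LinearMap.comp_apply, ← ha, ← LinearMap.comp_apply,
    ← LinearMap.rTensor_comp, hgf]
  simp

/-- over a local ring, `m W ∩ N ⊆ m N` makes `W ⧸ N` free -/
theorem free_of_inf_le [IsLocalRing A] [Module.Finite A V] [Module.Finite A W]
    [Module.Free A W] (H : IsLocalRing.maximalIdeal A • ⊤ ⊓ LinearMap.range g ≤
      IsLocalRing.maximalIdeal A • LinearMap.range g) :
    Module.Free A (W ⧸ LinearMap.range g) := by
  refine Module.free_of_lTensor_residueField_injective (f := (LinearMap.range g).subtype)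
    (g := (LinearMap.range g).mkQ) (Submodule.mkQ_surjective _) (LinearMap.exact_subtype_mkQ _) ?_
  rw [injective_iff_map_eq_zero]
  intro x hx
  let m := IsLocalRing.maximalIdeal A
  obtain ⟨n, rfl⟩ : ∃ n, (1 : A ⧸ m) ⊗ₜ[A] n = x := TensorProduct.mk_surjective A _ (A ⧸ m)
    Ideal.Quotient.mk_surjective x
  rw [show (1 : A ⧸ m) = Ideal.Quotient.mk m 1 from rfl] at hx ⊢
  erw [LinearMap.lTensor_tmul, ← (TensorProduct.quotTensorEquivQuotSMul W m).map_eq_zero_iff,
    TensorProduct.quotTensorEquivQuotSMul_mk_tmul, one_smul, Submodule.Quotient.mk_eq_zero] at hx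
  show ((Ideal.Quotient.mk m) 1 ⊗ₜ[A] n : (A ⧸ m) ⊗[A] _) = 0
  rw [← (TensorProduct.quotTensorEquivQuotSMul _ m).map_eq_zero_iff,
    TensorProduct.quotTensorEquivQuotSMul_mk_tmul, one_smul, Submodule.Quotient.mk_eq_zero,
    Submodule.mem_smul_top_iff]
  exact H ⟨hx, n.2⟩

/-- over a local ring surjectivity to the residue field is enough -/
theorem free_of_surjOn_maximalIdeal [IsLocalRing A] [Module.Finite A V] [Module.Finite A W]
    [Module.Free A W] (hgf : g ∘ₗ f = 0) (H : SurjOn f g (IsLocalRing.maximalIdeal A).mkQ) :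
    Module.Free A (W ⧸ LinearMap.range g) :=
  free_of_inf_le (range_inf_le_of_surjOn hgf _ H)

/-- surjectivity from a deep thickening is enough -/
theorem range_inf_le_of_surjOn_factor [IsNoetherianRing A] [Module.Finite A W] (hgf : g ∘ₗ f = 0)
    (m : Ideal A) (H : ∃ n₀ : ℕ, ∀ n, n₀ ≤ n → SurjOn f g
      (Ideal.Quotient.factorₐ A (Ideal.pow_le_self (I := m) (Nat.succ_ne_zero n))).toLinearMap) :
    m • ⊤ ⊓ LinearMap.range g ≤ m • LinearMap.range g := by
  obtain ⟨n₀, H⟩ := H
  obtain ⟨k, hk⟩ := Ideal.exists_pow_inf_eq_pow_smul m (LinearMap.range g)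
  rintro _ ⟨hm, ⟨v, rfl⟩⟩
  have e : ∀ (X : Type u) [AddCommGroup X] [Module A X] (I : Ideal A) (x : X),
      x ∈ I • (⊤ : Submodule A X) ↔ x ⊗ₜ[A] (Ideal.Quotient.mk I 1) = 0 := by
    intro X _ _ I x
    rw [← (TensorProduct.tensorQuotEquivQuotSMul X I).map_eq_zero_iff,
      TensorProduct.tensorQuotEquivQuotSMul_tmul_mk, one_smul, Submodule.Quotient.mk_eq_zero]
  have es : ∀ (X : Type u) [AddCommGroup X] [Module A X] (I : Ideal A) (z : X ⊗[A] (A ⧸ I)),
      ∃ x : X, x ⊗ₜ[A] (Ideal.Quotient.mk I 1) = z := by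
    intro X _ _ I z
    induction z using TensorProduct.induction_on with
    | zero => exact ⟨0, TensorProduct.zero_tmul _ _⟩
    | tmul x c =>
      obtain ⟨c, rfl⟩ := Ideal.Quotient.mk_surjective c
      refine ⟨c • x, ?_⟩
      rw [TensorProduct.smul_tmul]
      congr 1
      show Ideal.Quotient.mk I (c • 1) = _
      rw [smul_eq_mul, mul_one]
    | add a b ha hb =>
      obtain ⟨a', rfl⟩ := ha
      obtain ⟨b', rfl⟩ := hb
      exact ⟨a' + b', TensorProduct.add_tmul _ _ _⟩
  let n := max n₀ k
  obtain ⟨z', hz', a, ha⟩ := H n (le_max_left _ _) (v ⊗ₜ[A] Ideal.Quotient.mk m 1)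
    (by simpa using (e W m _).mp hm)
  obtain ⟨v', rfl⟩ := es V _ z'
  obtain ⟨u, rfl⟩ := es U _ a
  have h2 : v' - v - f u ∈ m • (⊤ : Submodule A V) := by
    rw [e V m, TensorProduct.sub_tmul, TensorProduct.sub_tmul, sub_eq_zero]
    simpa using ha.symm
  have h3 : g (v' - v - f u) ∈ m • LinearMap.range g := by
    rw [LinearMap.range_eq_map, ← Submodule.map_smul'']
    exact Submodule.mem_map_of_mem h2
  rw [map_sub, map_sub, show g (f u) = 0 from LinearMap.congr_fun hgf u, sub_zero] at h3
  have h4 : g v' ∈ m • LinearMap.range g := by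
    have h5 : g v' ∈ m ^ (n + 1) • (⊤ : Submodule A W) ⊓ LinearMap.range g :=
      ⟨(e W (m ^ (n + 1)) _).mpr (by simpa using hz'), v', rfl⟩
    rw [hk (n + 1) (by omega)] at h5
    have h6 := Submodule.smul_mono (Ideal.pow_le_self (I := m) (show n + 1 - k ≠ 0 by omega))
      (inf_le_right : m ^ k • (⊤ : Submodule A W) ⊓ LinearMap.range g ≤ LinearMap.range g) h5
    exact h6
  have h7 := sub_mem h4 h3
  rwa [sub_sub_cancel] at h7

end Groth.Agent.FlatCx.ThreeTerm
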