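import Mathlib
import Groth.Prelude.Def_ega3
import Groth.Agent.FlatCx.ThreeTerm

/-!
The functors `T_p(M) = H_p(P ⊗ M)` of a complex of flat modules.
-/

set_option autoImplicit false
set_option backward.isDefEq.respectTransparency false
set_option backward.isDefEq.respectTransparency.types false

noncomputable section

universe u

namespace Groth.Agent.FlatCx

open CategoryTheory CategoryTheory.Limits TensorProduct MonoidalCategory

variable {A : Type u} [CommRing A]

section homology

variable {ι : Type} {c : ComplexShape ι} (K L : HomologicalComplex (ModuleCat.{u} A) c)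

/-- the class of a cycle -/
def cls (i : ι) : LinearMap.ker (K.d i (c.next i)).hom →ₗ[A] K.homology i :=
  ((K.sc i).moduleCatCyclesIso.inv ≫ K.homologyπ i).hom

theorem iCycles_cls_lift (i : ι) (z : LinearMap.ker (K.d i (c.next i)).hom) :
    (K.iCycles i).hom ((K.sc i).moduleCatCyclesIso.inv.hom z) = z.1 := by
  exact congrArg (fun m => m.hom z) (K.sc i).moduleCatCyclesIso_inv_iCycles

theorem iCycles_injective (i : ι) : Function.Injective (K.iCycles i).hom :=
  (ModuleCat.mono_iff_injective _).mp inferInstance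

theorem cls_surjective (i : ι) : Function.Surjective (cls K i) := by
  intro h
  obtain ⟨x, rfl⟩ := (ModuleCat.epi_iff_surjective (K.homologyπ i)).mp inferInstance h
  refine ⟨(K.sc i).moduleCatCyclesIso.hom.hom x, ?_⟩
  show (K.homologyπ i).hom ((K.sc i).moduleCatCyclesIso.inv.hom _) = _
  rw [show (K.sc i).moduleCatCyclesIso.inv.hom ((K.sc i).moduleCatCyclesIso.hom.hom x) = x from
    congrArg (fun m => m.hom x) (K.sc i).moduleCatCyclesIso.hom_inv_id]

theorem cls_eq_zero_iff {k i : ι} (hk : c.prev i = k) (z : LinearMap.ker (K.d i (c.next i)).hom) :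
    cls K i z = 0 ↔ z.1 ∈ LinearMap.range (K.d k i).hom := by
  have hex := ShortComplex.exact_of_g_is_cokernel
    (ShortComplex.mk _ _ (K.toCycles_comp_homologyπ k i)) (K.homologyIsCokernel k i hk)
  rw [ShortComplex.moduleCat_exact_iff] at hex
  constructor
  · intro h
    obtain ⟨w, hw⟩ := hex ((K.sc i).moduleCatCyclesIso.inv.hom z) h
    refine ⟨w, ?_⟩
    rw [← iCycles_cls_lift K i z, ← K.toCycles_i k i]
    exact congrArg (K.iCycles i).hom hw
  · rintro ⟨w, hw⟩
    have h : (K.sc i).moduleCatCyclesIso.inv.hom z = (K.toCycles k i).hom w := by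
      apply iCycles_injective
      rw [iCycles_cls_lift, ← hw, ← K.toCycles_i k i]
      rfl
    show (K.homologyπ i).hom ((K.sc i).moduleCatCyclesIso.inv.hom z) = 0
    rw [h]
    exact congrArg (fun m => m.hom w) (K.toCycles_comp_homologyπ k i)

theorem cls_map (φ : K ⟶ L) (i : ι) (z : LinearMap.ker (K.d i (c.next i)).hom)
    (hz : (φ.f i).hom z.1 ∈ LinearMap.ker (L.d i (c.next i)).hom) :
    (HomologicalComplex.homologyMap φ i).hom (cls K i z) = cls L i ⟨(φ.f i).hom z.1, hz⟩ := by
  have h : (HomologicalComplex.cyclesMap φ i).hom ((K.sc i).moduleCatCyclesIso.inv.hom z) =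
      (L.sc i).moduleCatCyclesIso.inv.hom ⟨(φ.f i).hom z.1, hz⟩ := by
    apply iCycles_injective
    rw [iCycles_cls_lift]
    refine (congrArg (fun m => m.hom ((K.sc i).moduleCatCyclesIso.inv.hom z))
      (HomologicalComplex.cyclesMap_i φ i)).trans ?_
    exact congrArg (φ.f i).hom (iCycles_cls_lift K i z)
  refine (congrArg (fun m => m.hom ((K.sc i).moduleCatCyclesIso.inv.hom z))
    (HomologicalComplex.homologyπ_naturality φ i)).trans ?_
  exact congrArg (L.homologyπ i).hom h

end homology

variable (P : ChainComplex (ModuleCat.{u} A) ℤ)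

/-- the opcycles `P_i / d(P_{i+1})` -/
abbrev Op (i : ℤ) : Type u := P.X i ⧸ LinearMap.range (P.d (i + 1) i).hom

variable {P}

theorem prev_eq (p : ℤ) : (ComplexShape.down ℤ).prev p = p + 1 := ChainComplex.prev ℤ p

theorem flat_quotient_range_iff {k i : ℤ} (hk : i + 1 = k) :
    Module.Flat A (P.X i ⧸ LinearMap.range (P.d k i).hom) ↔ Module.Flat A (Op P i) := by
  subst hk; rfl

theorem d_hom_comp (k i j : ℤ) : (P.d i j).hom ∘ₗ (P.d k i).hom = 0 := by
  rw [← ModuleCat.hom_comp, P.d_comp_d]; rfl

/-- `T_p` is surjective along `h` iff the three term complex is -/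
theorem surjective_map_iff (p q : ℤ) (hq : q + 1 = p) {M N : ModuleCat.{u} A} (h : M ⟶ N) :
    Function.Surjective ((CohIII.TFun P p).map h).hom ↔
      ThreeTerm.SurjOn (P.d (p + 1) p).hom (P.d p q).hom h.hom := by
  have hn : (ComplexShape.down ℤ).next p = q := by rw [ChainComplex.next]; omega
  subst hn
  let K := CohIII.tensorObj P M
  let L := CohIII.tensorObj P N
  let φ : K ⟶ L := CohIII.tensorMap P h
  constructor
  · intro hs z hz
    obtain ⟨y, hy⟩ := hs (cls L p ⟨z, hz⟩)
    obtain ⟨x, rfl⟩ := cls_surjective K p y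
    have hx2 : (φ.f p).hom x.1 ∈ LinearMap.ker (L.d p ((ComplexShape.down ℤ).next p)).hom := by
      show (φ.f p ≫ L.d p _).hom x.1 = 0
      rw [φ.comm]
      show (φ.f _).hom ((K.d p _).hom x.1) = 0
      rw [x.2, map_zero]
    have h1 := (cls_map K L φ p x hx2).symm.trans hy
    rw [← sub_eq_zero, ← map_sub, cls_eq_zero_iff L (prev_eq p)] at h1
    exact ⟨x.1, x.2, h1⟩
  · intro hs y
    obtain ⟨z, rfl⟩ := cls_surjective L p y
    obtain ⟨z', hz', hz''⟩ := hs z.1 z.2
    refine ⟨cls K p ⟨z', hz'⟩, ?_⟩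
    have hx2 : (φ.f p).hom z' ∈ LinearMap.ker (L.d p ((ComplexShape.down ℤ).next p)).hom := by
      show (φ.f p ≫ L.d p _).hom z' = 0
      rw [φ.comm]
      show (φ.f _).hom ((K.d p _).hom z') = 0
      rw [show (K.d p ((ComplexShape.down ℤ).next p)).hom z' = 0 from hz', map_zero]
    refine (cls_map K L φ p ⟨z', hz'⟩ hx2).trans ?_
    rw [← sub_eq_zero, ← map_sub, cls_eq_zero_iff L (prev_eq p)]
    exact hz''

/-- `T_p` is injective along `h` iff the three term complex is -/
theorem injective_map_iff (p q : ℤ) (hq : q + 1 = p) {M N : ModuleCat.{u} A} (h : M ⟶ N) :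
    Function.Injective ((CohIII.TFun P p).map h).hom ↔
      ThreeTerm.InjOn (P.d (p + 1) p).hom (P.d p q).hom h.hom := by
  have hn : (ComplexShape.down ℤ).next p = q := by rw [ChainComplex.next]; omega
  subst hn
  let K := CohIII.tensorObj P M
  let L := CohIII.tensorObj P N
  let φ : K ⟶ L := CohIII.tensorMap P h
  have hmem : ∀ x : LinearMap.ker (K.d p ((ComplexShape.down ℤ).next p)).hom,
      (φ.f p).hom x.1 ∈ LinearMap.ker (L.d p ((ComplexShape.down ℤ).next p)).hom := fun x => by
    show (φ.f p ≫ L.d p _).hom x.1 = 0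
    rw [φ.comm]
    show (φ.f _).hom ((K.d p _).hom x.1) = 0
    rw [x.2, map_zero]
  rw [injective_iff_map_eq_zero]
  constructor
  · intro hi z hz hz'
    exact (cls_eq_zero_iff K (prev_eq p) ⟨z, hz⟩).mp (hi _ ((cls_map K L φ p ⟨z, hz⟩ (hmem _)).trans
      ((cls_eq_zero_iff L (prev_eq p) _).mpr hz')))
  · intro hi y hy
    obtain ⟨z, rfl⟩ := cls_surjective K p y
    exact (cls_eq_zero_iff K (prev_eq p) z).mpr (hi z.1 z.2
      ((cls_eq_zero_iff L (prev_eq p) _).mp ((cls_map K L φ p z (hmem z)).symm.trans hy)))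

theorem preservesEpimorphisms_iff (hP : ∀ i, Module.Flat A (P.X i)) (p q : ℤ) (hq : q + 1 = p) :
    (CohIII.TFun P p).PreservesEpimorphisms ↔ Module.Flat A (Op P q) := by
  rw [← flat_quotient_range_iff hq]
  constructor
  · intro h
    haveI := hP q
    refine ThreeTerm.flat_of_surjOn (d_hom_comp (p + 1) p q) fun I =>
      (surjective_map_iff p q hq (ModuleCat.ofHom I.mkQ)).mp
        ((ModuleCat.epi_iff_surjective _).mp ?_)
    haveI : Epi (ModuleCat.ofHom I.mkQ) :=
      (ModuleCat.epi_iff_surjective _).mpr I.mkQ_surjective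
    infer_instance
  · intro h
    exact ⟨fun g hg => (ModuleCat.epi_iff_surjective _).mpr ((surjective_map_iff p q hq g).mpr
      (ThreeTerm.surjOn_of_flat ((ModuleCat.epi_iff_surjective g).mp hg)))⟩

theorem preservesMonomorphisms_iff (hP : ∀ i, Module.Flat A (P.X i)) (p : ℤ) :
    (CohIII.TFun P p).PreservesMonomorphisms ↔ Module.Flat A (Op P p) := by
  constructor
  · intro h
    haveI := hP (p - 1)
    refine ThreeTerm.flat_of_injOn (d_hom_comp (p + 1) p (p - 1)) fun I =>
      (injective_map_iff p (p - 1) (by omega) (ModuleCat.ofHom I.subtype)).mp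
        ((ModuleCat.mono_iff_injective _).mp ?_)
    haveI : Mono (ModuleCat.ofHom I.subtype) :=
      (ModuleCat.mono_iff_injective _).mpr Subtype.val_injective
    infer_instance
  · intro h
    exact ⟨fun g hg => (ModuleCat.mono_iff_injective _).mpr
      ((injective_map_iff p (p - 1) (by omega) g).mpr
      (ThreeTerm.injOn_of_flat ((ModuleCat.mono_iff_injective g).mp hg)))⟩

/-- the opcycles object is the quotient -/
def opcyclesIso (i : ℤ) : P.opcycles i ≅ ModuleCat.of A (Op P i) :=
  (P.sc i).moduleCatOpcyclesIso ≪≫ (LinearEquiv.toModuleIso (Submodule.quotEquivOfEq _ _ (by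
    show LinearMap.range (P.d ((ComplexShape.down ℤ).prev i) i).hom = _
    rw [prev_eq])))

theorem free_op_of_surjective [IsLocalRing A]
    (hP : ∀ i, Module.Finite A (P.X i) ∧ Module.Flat A (P.X i)) (p q : ℤ) (hq : q + 1 = p)
    (hs : Function.Surjective ((CohIII.TFun P p).map
      (ModuleCat.ofHom (Algebra.linearMap A (IsLocalRing.ResidueField A)))).hom) :
    Module.Free A (Op P q) := by
  haveI := (hP p).1; haveI := (hP q).1; haveI := (hP q).2
  haveI : Module.Free A (P.X q) := Module.free_of_flat_of_isLocalRing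
  have h1 := ThreeTerm.free_of_surjOn_maximalIdeal (d_hom_comp (P := P) (p + 1) p q)
    ((surjective_map_iff p q hq _).mp hs)
  subst hq
  exact h1

theorem surjective_of_preservesEpimorphisms (p : ℤ) [(CohIII.TFun P p).PreservesEpimorphisms]
    {M N : ModuleCat.{u} A} (g : M ⟶ N) (hg : Function.Surjective g.hom) :
    Function.Surjective ((CohIII.TFun P p).map g).hom := by
  haveI : Epi g := (ModuleCat.epi_iff_surjective _).mpr hg
  exact (ModuleCat.epi_iff_surjective _).mp inferInstance

theorem preservesEpimorphisms_iff_surjective_residue [IsLocalRing A]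
    (hP : ∀ i, Module.Finite A (P.X i) ∧ Module.Flat A (P.X i)) (p : ℤ) :
    (CohIII.TFun P p).PreservesEpimorphisms ↔ Function.Surjective ((CohIII.TFun P p).map
      (ModuleCat.ofHom (Algebra.linearMap A (IsLocalRing.ResidueField A)))).hom := by
  constructor
  · intro _
    exact surjective_of_preservesEpimorphisms p _ Ideal.Quotient.mk_surjective
  · intro hs
    haveI := free_op_of_surjective hP p (p - 1) (by omega) hs
    exact (preservesEpimorphisms_iff (fun i => (hP i).2) p (p - 1) (by omega)).mpr inferInstance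

/-- homology as cycles modulo boundaries -/
def homologyEquiv (p q : ℤ) (hq : q + 1 = p) :
    (LinearMap.ker (P.d p q).hom ⧸
      (LinearMap.range (P.d (p + 1) p).hom).comap (LinearMap.ker (P.d p q).hom).subtype) ≃ₗ[A]
      P.homology p := by
  have hn : (ComplexShape.down ℤ).next p = q := by rw [ChainComplex.next]; omega
  subst hn
  refine Submodule.quotEquivOfEq _ _ ?_ ≪≫ₗ
    LinearMap.quotKerEquivOfSurjective (cls P p) (cls_surjective P p)
  ext z
  exact (cls_eq_zero_iff P (prev_eq p) z).symm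

/-- the map `C_p → P_q` -/
def opD (p q : ℤ) : Op P p →ₗ[A] P.X q :=
  (LinearMap.range (P.d (p + 1) p).hom).liftQ (P.d p q).hom
    (LinearMap.range_le_ker_iff.mpr (d_hom_comp _ _ _))

theorem range_opD (p q : ℤ) : LinearMap.range (opD (P := P) p q) = LinearMap.range (P.d p q).hom :=
  Submodule.range_liftQ _ _ _

/-- homology is the kernel of `C_p → P_q` -/
def kerOpDEquiv (p q : ℤ) (hq : q + 1 = p) :
    LinearMap.ker (opD (P := P) p q) ≃ₗ[A] P.homology p := by
  refine ?_ ≪≫ₗ homologyEquiv p q hq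
  refine (LinearEquiv.ofEq _ ((LinearMap.ker (P.d p q).hom).map
      (LinearMap.range (P.d (p + 1) p).hom).mkQ) (Submodule.ker_liftQ _ _ _)) ≪≫ₗ ?_
  let ψ := ((LinearMap.range (P.d (p + 1) p).hom).mkQ.comp
    (LinearMap.ker (P.d p q).hom).subtype)
  refine (LinearEquiv.ofEq _ (LinearMap.range ψ)
      (by simp [ψ, LinearMap.range_comp])) ≪≫ₗ ψ.quotKerEquivRange.symm ≪≫ₗ
    Submodule.quotEquivOfEq _ _ (by simp [ψ, LinearMap.ker_comp])

theorem flat_homology (hP : ∀ i, Module.Flat A (P.X i)) (p q : ℤ) (hq : q + 1 = p)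
    (h1 : Module.Flat A (Op P p)) (h2 : Module.Flat A (Op P q)) :
    Module.Flat A (P.homology p) := by
  haveI := hP q
  haveI := h1
  subst hq
  haveI : Module.Flat A (P.X q ⧸ LinearMap.range (P.d (q + 1) q).hom) := h2
  haveI := ThreeTerm.flat_submodule (LinearMap.range (P.d (q + 1) q).hom)
  haveI : Module.Flat A (Op P (q + 1) ⧸ LinearMap.ker (opD (P := P) (q + 1) q)) :=
    Module.Flat.of_linearEquiv ((opD (P := P) (q + 1) q).quotKerEquivRange ≪≫ₗ
      LinearEquiv.ofEq _ _ (range_opD _ _))
  haveI := ThreeTerm.flat_submodule (LinearMap.ker (opD (P := P) (q + 1) q))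
  exact Module.Flat.of_linearEquiv (kerOpDEquiv (q + 1) q rfl).symm

theorem flat_op_of_flat_homology (hP : ∀ i, Module.Flat A (P.X i)) (p q : ℤ) (hq : q + 1 = p)
    (h1 : Module.Flat A (P.homology p)) (h2 : Module.Flat A (Op P q)) :
    Module.Flat A (Op P p) := by
  haveI := hP q
  haveI := h1
  subst hq
  haveI : Module.Flat A (P.X q ⧸ LinearMap.range (P.d (q + 1) q).hom) := h2
  haveI := ThreeTerm.flat_submodule (LinearMap.range (P.d (q + 1) q).hom)
  haveI : Module.Flat A (Op P (q + 1) ⧸ LinearMap.ker (opD (P := P) (q + 1) q)) :=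
    Module.Flat.of_linearEquiv ((opD (P := P) (q + 1) q).quotKerEquivRange ≪≫ₗ
      LinearEquiv.ofEq _ _ (range_opD _ _))
  haveI : Module.Flat A (LinearMap.ker (opD (P := P) (q + 1) q)) :=
    Module.Flat.of_linearEquiv (kerOpDEquiv (q + 1) q rfl)
  exact ThreeTerm.flat_of_submodule (LinearMap.ker (opD (P := P) (q + 1) q))

theorem finite_homology [IsNoetherianRing A] (p : ℤ) [Module.Finite A (P.X p)] :
    Module.Finite A (P.homology p) :=
  Module.Finite.equiv (homologyEquiv p (p - 1) (by omega))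

end Groth.Agent.FlatCx
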