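import Mathlib
import Groth.Agent.FlatCx.Basic

/-!
The comparison `H_p(P) ⊗ M → H_p(P ⊗ M)`.
-/

set_option autoImplicit false
set_option backward.isDefEq.respectTransparency false
set_option backward.isDefEq.respectTransparency.types false

noncomputable section

universe u

namespace Groth.Agent.FlatCx

open CategoryTheory CategoryTheory.Limits TensorProduct MonoidalCategory

variable {A : Type u} [CommRing A] (P : ChainComplex (ModuleCat.{u} A) ℤ)

/-- `x ↦ x ⊗ m` as a map of complexes -/
def tmulHom (M : ModuleCat.{u} A) (m : M) : P ⟶ CohIII.tensorObj P M where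
  f i := ModuleCat.ofHom ((TensorProduct.mk A (P.X i) M).flip m)
  comm' i j _ := ModuleCat.hom_ext (LinearMap.ext fun _ => rfl)

theorem tmulHom_mem (p : ℤ) (M : ModuleCat.{u} A) (m : M)
    (z : LinearMap.ker (P.d p ((ComplexShape.down ℤ).next p)).hom) :
    (z.1 ⊗ₜ[A] m : P.X p ⊗[A] M) ∈
      LinearMap.ker ((CohIII.tensorObj P M).d p ((ComplexShape.down ℤ).next p)).hom := by
  show ((P.d p ((ComplexShape.down ℤ).next p)).hom z.1) ⊗ₜ[A] m = 0
  rw [z.2, TensorProduct.zero_tmul]

theorem homologyMap_tmulHom (p : ℤ) (M : ModuleCat.{u} A) (m : M)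
    (z : LinearMap.ker (P.d p ((ComplexShape.down ℤ).next p)).hom) :
    (HomologicalComplex.homologyMap (tmulHom P M m) p).hom (cls P p z) =
      cls (CohIII.tensorObj P M) p ⟨z.1 ⊗ₜ[A] m, tmulHom_mem P p M m z⟩ :=
  cls_map P (CohIII.tensorObj P M) (tmulHom P M m) p z (tmulHom_mem P p M m z)

/-- the comparison map -/
def cmp (p : ℤ) (M : ModuleCat.{u} A) : P.homology p ⊗[A] M →ₗ[A] CohIII.T P p M :=
  TensorProduct.lift <| LinearMap.flip
    { toFun := fun m => (HomologicalComplex.homologyMap (tmulHom P M m) p).hom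
      map_add' := fun a b => LinearMap.ext fun h => by
        obtain ⟨z, rfl⟩ := cls_surjective P p h
        simp only [LinearMap.add_apply, homologyMap_tmulHom, ← map_add]
        exact congrArg _ (Subtype.ext (TensorProduct.tmul_add _ _ _))
      map_smul' := fun r a => LinearMap.ext fun h => by
        obtain ⟨z, rfl⟩ := cls_surjective P p h
        simp only [LinearMap.smul_apply, homologyMap_tmulHom, RingHom.id_apply, ← map_smul]
        exact congrArg _ (Subtype.ext (TensorProduct.tmul_smul _ _ _)) }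

theorem cmp_cls_tmul (p : ℤ) (M : ModuleCat.{u} A) (m : M)
    (z : LinearMap.ker (P.d p ((ComplexShape.down ℤ).next p)).hom) :
    cmp P p M (cls P p z ⊗ₜ[A] m) =
      cls (CohIII.tensorObj P M) p ⟨z.1 ⊗ₜ[A] m, tmulHom_mem P p M m z⟩ :=
  homologyMap_tmulHom P p M m z

theorem cmp_naturality (p : ℤ) {M N : ModuleCat.{u} A} (g : M ⟶ N) (x : P.homology p ⊗[A] M) :
    ((CohIII.TFun P p).map g).hom (cmp P p M x) = cmp P p N (g.hom.lTensor _ x) := by
  induction x using TensorProduct.induction_on with
  | zero => simp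
  | add a b ha hb => simp only [map_add, ha, hb]
  | tmul h m =>
    obtain ⟨z, rfl⟩ := cls_surjective P p h
    rw [cmp_cls_tmul, LinearMap.lTensor_tmul, cmp_cls_tmul]
    exact cls_map _ _ (CohIII.tensorMap P g) p ⟨z.1 ⊗ₜ[A] m, tmulHom_mem P p M m z⟩
      (tmulHom_mem P p N (g.hom m) z)

/-- with `C_{p-1}` flat the comparison is bijective -/
theorem cmp_bijective (hP : ∀ i, Module.Flat A (P.X i)) (p q : ℤ) (hq : q + 1 = p)
    (h : Module.Flat A (Op P q)) (M : ModuleCat.{u} A) :
    Function.Bijective (cmp P p M) := by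
  subst hq
  have hn : (ComplexShape.down ℤ).next (q + 1) = q := by rw [ChainComplex.next]; omega
  let g : P.X (q + 1) →ₗ[A] P.X ((ComplexShape.down ℤ).next (q + 1)) :=
    (P.d (q + 1) ((ComplexShape.down ℤ).next (q + 1))).hom
  haveI hflat : Module.Flat A (P.X ((ComplexShape.down ℤ).next (q + 1)) ⧸ LinearMap.range g) := by
    have e : ∀ j, j = q → Module.Flat A (P.X j ⧸ LinearMap.range (P.d (q + 1) j).hom) := by
      rintro _ rfl; exact h
    exact e _ hn
  let u : LinearMap.ker g →ₗ[A] P.homology (q + 1) := cls P (q + 1)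
  have key : ∀ w : LinearMap.ker g ⊗[A] M,
      (LinearMap.ker g).subtype.rTensor M w ∈
        LinearMap.ker ((CohIII.tensorObj P M).d (q + 1) ((ComplexShape.down ℤ).next (q + 1))).hom := by
    intro w
    show g.rTensor M ((LinearMap.ker g).subtype.rTensor M w) = 0
    rw [← LinearMap.comp_apply, ← LinearMap.rTensor_comp,
      show g ∘ₗ (LinearMap.ker g).subtype = 0 from LinearMap.ext fun v => v.2]
    simp
  have hcomp : ∀ w, cmp P (q + 1) M (u.rTensor M w) =
      cls (CohIII.tensorObj P M) (q + 1) ⟨(LinearMap.ker g).subtype.rTensor M w, key w⟩ := by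
    intro w
    induction w using TensorProduct.induction_on with
    | zero =>
      simp only [map_zero]
      exact (map_zero (cls (CohIII.tensorObj P M) (q + 1))).symm
    | tmul z m => exact cmp_cls_tmul P (q + 1) M m z
    | add a b ha hb =>
      simp only [map_add, ha, hb]
      rw [← map_add]
      rfl
  constructor
  · rw [injective_iff_map_eq_zero]
    intro x hx
    obtain ⟨w, rfl⟩ := LinearMap.rTensor_surjective M (g := u) (cls_surjective P (q + 1)) x
    rw [hcomp, cls_eq_zero_iff _ (prev_eq (q + 1))] at hx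
    obtain ⟨a, ha⟩ := hx
    let dp : P.X (q + 1 + 1) →ₗ[A] LinearMap.ker g :=
      (P.d (q + 1 + 1) (q + 1)).hom.codRestrict _ fun v =>
        LinearMap.congr_fun (d_hom_comp (P := P) (q + 1 + 1) (q + 1) _) v
    haveI : Module.Flat A (P.X (q + 1) ⧸ LinearMap.ker g) := by
      haveI := hP ((ComplexShape.down ℤ).next (q + 1))
      haveI := ThreeTerm.flat_submodule (LinearMap.range g)
      exact Module.Flat.of_linearEquiv g.quotKerEquivRange
    have h2 : w = dp.rTensor M a := by
      apply ThreeTerm.rTensor_subtype_injective (LinearMap.ker g) M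
      rw [← LinearMap.comp_apply, ← LinearMap.rTensor_comp, LinearMap.subtype_comp_codRestrict]
      exact ha.symm
    rw [h2, ← LinearMap.comp_apply, ← LinearMap.rTensor_comp,
      show u ∘ₗ dp = 0 from LinearMap.ext fun v =>
        (cls_eq_zero_iff P (prev_eq (q + 1)) _).mpr ⟨v, rfl⟩]
    simp
  · intro y
    obtain ⟨z, rfl⟩ := cls_surjective _ _ y
    have hz : g.rangeRestrict.rTensor M z.1 = 0 := by
      refine ThreeTerm.rTensor_subtype_injective (LinearMap.range g) M ?_
      rw [← LinearMap.comp_apply, ← LinearMap.rTensor_comp, map_zero]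
      exact z.2
    obtain ⟨w, hw⟩ := ((rTensor_exact M (LinearMap.exact_subtype_ker_map g.rangeRestrict)
      g.surjective_rangeRestrict) z.1).mp hz
    let e : LinearMap.ker g.rangeRestrict ≃ₗ[A] LinearMap.ker g :=
      LinearEquiv.ofEq _ _ g.ker_rangeRestrict
    refine ⟨u.rTensor M (e.toLinearMap.rTensor M w), ?_⟩
    rw [hcomp]
    refine congrArg _ (Subtype.ext ?_)
    show (LinearMap.ker g).subtype.rTensor M (e.toLinearMap.rTensor M w) = z.1
    rw [← LinearMap.comp_apply, ← LinearMap.rTensor_comp]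
    exact hw

/-- `T_p ≅ H_p(P) ⊗ -` -/
def cmpIso (hP : ∀ i, Module.Flat A (P.X i)) (p q : ℤ) (hq : q + 1 = p) (h : Module.Flat A (Op P q)) :
    CohIII.TFun P p ≅ tensorLeft (P.homology p) :=
  (NatIso.ofComponents (F := tensorLeft (P.homology p)) (G := CohIII.TFun P p)
    (fun M => (LinearEquiv.ofBijective (cmp P p M) (cmp_bijective P hP p q hq h M)).toModuleIso)
    fun g => ModuleCat.hom_ext (LinearMap.ext fun x => (cmp_naturality P p g x).symm)).symm

/-- `T_p(A) = H_p(P)` -/
def unitIso (p : ℤ) : CohIII.T P p (ModuleCat.of A A) ≅ P.homology p :=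
  HomologicalComplex.homologyMapIso
    (HomologicalComplex.Hom.isoOfComponents (fun i => (TensorProduct.rid A (P.X i)).toModuleIso)
      fun i j _ => ModuleCat.hom_ext (TensorProduct.ext' fun x r => by
        show (P.d i j).hom (TensorProduct.rid A _ (x ⊗ₜ[A] r)) =
          TensorProduct.rid A _ ((P.d i j).hom x ⊗ₜ[A] r)
        simp)) p

end Groth.Agent.FlatCx
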