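import Mathlib
import Groth.Agent.FlatCx.Compare

/-!
Consequences of the flatness criteria for `T_p`.
-/

set_option autoImplicit false
set_option backward.isDefEq.respectTransparency false
set_option backward.isDefEq.respectTransparency.types false

noncomputable section

universe u

namespace Groth.Agent.FlatCx

open CategoryTheory CategoryTheory.Limits TensorProduct MonoidalCategory

variable {A : Type u} [CommRing A]

theorem tensorLeft_preservesEpimorphisms (N : ModuleCat.{u} A) :
    (tensorLeft N).PreservesEpimorphisms :=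
  ⟨fun g hg => (ModuleCat.epi_iff_surjective _).mpr
    (LinearMap.lTensor_surjective N ((ModuleCat.epi_iff_surjective g).mp hg))⟩

theorem tensorLeft_preservesMonomorphisms (N : ModuleCat.{u} A) [Module.Flat A N] :
    (tensorLeft N).PreservesMonomorphisms :=
  ⟨fun g hg => (ModuleCat.mono_iff_injective _).mpr
    (Module.Flat.lTensor_preserves_injective_linearMap (M := N) g.hom
      ((ModuleCat.mono_iff_injective g).mp hg))⟩

variable {P : ChainComplex (ModuleCat.{u} A) ℤ} (hP : ∀ i, Module.Flat A (P.X i))

include hP

theorem preservesEpimorphisms_iff_preservesMonomorphisms (p q : ℤ) (hq : q + 1 = p) :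
    (CohIII.TFun P p).PreservesEpimorphisms ↔ (CohIII.TFun P q).PreservesMonomorphisms := by
  rw [preservesEpimorphisms_iff hP p q hq, preservesMonomorphisms_iff hP q]

theorem exact_iff (p q : ℤ) (hq : q + 1 = p) :
    ((CohIII.TFun P p).PreservesMonomorphisms ∧ (CohIII.TFun P p).PreservesEpimorphisms) ↔
      Module.Flat A (Op P p) ∧ Module.Flat A (Op P q) := by
  rw [preservesEpimorphisms_iff hP p q hq, preservesMonomorphisms_iff hP p]

theorem exact_iff_flat_homology (p q : ℤ) (hq : q + 1 = p) :
    ((CohIII.TFun P p).PreservesMonomorphisms ∧ (CohIII.TFun P p).PreservesEpimorphisms) ↔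
      ((CohIII.TFun P p).PreservesEpimorphisms ∧ Module.Flat A (P.homology p)) := by
  rw [preservesEpimorphisms_iff hP p q hq, preservesMonomorphisms_iff hP p]
  exact ⟨fun h => ⟨h.2, flat_homology hP p q hq h.1 h.2⟩,
    fun h => ⟨flat_op_of_flat_homology hP p q hq h.2 h.1, h.1⟩⟩

theorem isZero_of_subsingleton_homology (p q : ℤ) (hq : q + 1 = p) (h : Module.Flat A (Op P q))
    [Subsingleton (P.homology p)] (M : ModuleCat.{u} A) : IsZero ((CohIII.TFun P p).obj M) := by
  refine IsZero.of_iso ?_ ((cmpIso P hP p q hq h).app M)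
  exact @ModuleCat.isZero_of_subsingleton A _ _
    (inferInstanceAs (Subsingleton (P.homology p ⊗[A] M)))

theorem flat_op_of_below (i₀ : ℤ) (hb : ∀ i < i₀, IsZero (P.X i)) (p : ℤ)
    (h : ∀ q ≤ p, Module.Flat A (P.homology q)) : ∀ q ≤ p, Module.Flat A (Op P q) := by
  have hlow : ∀ q < i₀, Module.Flat A (Op P q) := fun q hq => by
    haveI := ModuleCat.subsingleton_of_isZero (hb q hq)
    haveI : Subsingleton (Op P q) := (Submodule.mkQ_surjective _).subsingleton
    infer_instance
  intro q hq
  by_cases hq0 : q < i₀
  · exact hlow q hq0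
  · obtain ⟨k, rfl⟩ : ∃ k : ℕ, q = i₀ - 1 + k := ⟨(q - (i₀ - 1)).toNat, by omega⟩
    clear hq0
    induction k with
    | zero => exact hlow _ (by omega)
    | succ k ih =>
      exact flat_op_of_flat_homology hP _ (i₀ - 1 + k) (by push_cast; omega) (h _ hq)
        (ih (by omega))

theorem smul_injective (q : ℤ) (h : Module.Flat A (Op P q)) (M : ModuleCat.{u} A) (f : A)
    (hf : Function.Injective (fun x : M => f • x)) :
    Function.Injective (fun y : CohIII.T P q M => f • y) := by
  let g : M ⟶ M := ModuleCat.ofHom (f • LinearMap.id)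
  haveI := (preservesMonomorphisms_iff hP q).mpr h
  haveI : Mono g := (ModuleCat.mono_iff_injective _).mpr hf
  have hi : Function.Injective ((CohIII.TFun P q).map g).hom :=
    (ModuleCat.mono_iff_injective _).mp inferInstance
  have e : ∀ y, ((CohIII.TFun P q).map g).hom y = f • y := fun y => by
    obtain ⟨z, rfl⟩ := cls_surjective (CohIII.tensorObj P M) q y
    have e0 : ∀ w : P.X q ⊗[A] M, LinearMap.lTensor (P.X q) g.hom w = f • w := fun w => by
      induction w using TensorProduct.induction_on with
      | zero => simp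
      | tmul x m => simp [g]
      | add a b ha hb => simp [ha, hb]
    have e2 : ((CohIII.tensorMap P g).f q).hom z.1 = f • z.1 := e0 z.1
    have hz2 : ((CohIII.tensorMap P g).f q).hom z.1 ∈ LinearMap.ker
        ((CohIII.tensorObj P M).d q ((ComplexShape.down ℤ).next q)).hom := by
      rw [e2]; exact Submodule.smul_mem _ f z.2
    refine (cls_map (CohIII.tensorObj P M) (CohIII.tensorObj P M) (CohIII.tensorMap P g) q z
      hz2).trans ?_
    refine (congrArg (cls (CohIII.tensorObj P M) q)
      (show (⟨_, hz2⟩ : LinearMap.ker _) = f • z from Subtype.ext e2)).trans ?_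
    exact map_smul (cls (CohIII.tensorObj P M) q) f z
  intro a b hab
  exact hi ((e a).trans (hab.trans (e b).symm))

omit hP

theorem free_of_exact [IsLocalRing A] [IsNoetherianRing A]
    (hP : ∀ i, Module.Finite A (P.X i) ∧ Module.Flat A (P.X i)) (p : ℤ)
    (h : (CohIII.TFun P p).PreservesMonomorphisms ∧ (CohIII.TFun P p).PreservesEpimorphisms) :
    Module.Free A ((CohIII.TFun P p).obj (ModuleCat.of A A)) := by
  haveI := (hP p).1
  haveI := ((exact_iff_flat_homology (fun i => (hP i).2) p (p - 1) (by omega)).mp h).2
  haveI := finite_homology (P := P) p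
  haveI : Module.Free A (P.homology p) := Module.free_of_flat_of_isLocalRing
  exact Module.Free.of_equiv (unitIso P p).toLinearEquiv.symm

theorem subsingleton_homology_of_residue [IsLocalRing A] [IsNoetherianRing A]
    (hP : ∀ i, Module.Finite A (P.X i) ∧ Module.Flat A (P.X i)) (p : ℤ)
    (hk : IsZero ((CohIII.TFun P p).obj (ModuleCat.of A (IsLocalRing.ResidueField A)))) :
    (CohIII.TFun P p).PreservesEpimorphisms ∧ Subsingleton (P.homology p) := by
  have hepi : (CohIII.TFun P p).PreservesEpimorphisms := by
    refine (preservesEpimorphisms_iff_surjective_residue hP p).mpr fun y => ⟨0, ?_⟩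
    haveI := ModuleCat.subsingleton_of_isZero hk
    exact Subsingleton.elim _ _
  refine ⟨hepi, ?_⟩
  haveI := (hP p).1
  haveI := finite_homology (P := P) p
  have h := (preservesEpimorphisms_iff (fun i => (hP i).2) p (p - 1) (by omega)).mp hepi
  haveI := ModuleCat.subsingleton_of_isZero (IsZero.of_iso hk
    ((cmpIso P (fun i => (hP i).2) p (p - 1) (by omega) h).app
      (ModuleCat.of A (IsLocalRing.ResidueField A))).symm)
  haveI : Subsingleton (P.homology p ⊗[A] IsLocalRing.ResidueField A) := this
  haveI : Subsingleton (IsLocalRing.ResidueField A ⊗[A] P.homology p) :=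
    (TensorProduct.comm A _ _).toEquiv.subsingleton
  exact IsLocalRing.subsingleton_tensorProduct.mp
    (this : Subsingleton (IsLocalRing.ResidueField A ⊗[A] P.homology p))

end Groth.Agent.FlatCx
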