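import Mathlib
import Groth.Agent.FlatCx.Basic

/-!
Base change of complexes.
-/

set_option autoImplicit false
set_option backward.isDefEq.respectTransparency false
set_option backward.isDefEq.respectTransparency.types false

noncomputable section

universe u

namespace Groth.Agent.FlatCx

open CategoryTheory CategoryTheory.Limits TensorProduct MonoidalCategory

variable {A : Type u} [CommRing A] (B : Type u) [CommRing B] [Algebra A B]

/-- `B` as restricted module is `B` -/
def restrictSelfEquiv :
    ((ModuleCat.restrictScalars (algebraMap A B)).obj (ModuleCat.of B B)) ≃ₗ[A] B where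
  toFun x := x
  invFun x := x
  map_add' _ _ := rfl
  map_smul' r x := (Algebra.smul_def r (show B from x)).symm
  left_inv _ := rfl
  right_inv _ := rfl

/-- extension of scalars is the tensor product -/
def extEquiv (X : ModuleCat.{u} A) :
    ((ModuleCat.extendScalars (algebraMap A B)).obj X) ≃ₗ[B] B ⊗[A] X :=
  { TensorProduct.congr (restrictSelfEquiv (A := A) B) (LinearEquiv.refl A X) with
    map_smul' := fun b x => by
      show TensorProduct.congr (restrictSelfEquiv (A := A) B) (LinearEquiv.refl A X) (b • x) =
        b • TensorProduct.congr (restrictSelfEquiv (A := A) B) (LinearEquiv.refl A X) x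
      induction x using TensorProduct.induction_on with
      | zero => rw [smul_zero]; simp
      | tmul c y => rfl
      | add c d hc hd => rw [smul_add, map_add, map_add, smul_add]; exact congrArg₂ _ hc hd }

theorem extEquiv_map {X Y : ModuleCat.{u} A} (f : X ⟶ Y)
    (x : (ModuleCat.extendScalars (algebraMap A B)).obj X) :
    extEquiv B Y (((ModuleCat.extendScalars (algebraMap A B)).map f).hom x) =
      f.hom.baseChange B (extEquiv B X x) := by
  induction x using TensorProduct.induction_on with
  | zero => simp
  | tmul c y => rfl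
  | add c d hc hd => simp only [map_add, hc, hd]

variable (P : ChainComplex (ModuleCat.{u} A) ℤ)

theorem bc_flat (hP : ∀ i, Module.Flat A (P.X i)) (i : ℤ) :
    Module.Flat B ((CohIII.bcCx (algebraMap A B) P).X i) := by
  haveI := hP i
  exact Module.Flat.of_linearEquiv (extEquiv B (P.X i))

theorem bc_finite (i : ℤ) [Module.Finite A (P.X i)] :
    Module.Finite B ((CohIII.bcCx (algebraMap A B) P).X i) :=
  Module.Finite.equiv (extEquiv B (P.X i)).symm

/-- opcycles commute with base change -/
def opBaseChange (i : ℤ) : Op (CohIII.bcCx (algebraMap A B) P) i ≃ₗ[B] B ⊗[A] Op P i := by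
  let d := (P.d (i + 1) i).hom
  let π := (LinearMap.range d).mkQ.baseChange B
  have hs : Function.Surjective π := LinearMap.lTensor_surjective B (Submodule.mkQ_surjective _)
  have hex : Function.Exact (d.baseChange B) π :=
    lTensor_exact B (LinearMap.exact_map_mkQ_range d) (Submodule.mkQ_surjective _)
  refine Submodule.Quotient.equiv _ (LinearMap.range (d.baseChange B)) (extEquiv B (P.X i)) ?_ ≪≫ₗ
    Submodule.quotEquivOfEq _ _ hex.linearMap_ker_eq.symm ≪≫ₗ π.quotKerEquivOfSurjective hs
  rw [Submodule.map_equiv_eq_comap_symm]
  ext y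
  constructor
  · rintro ⟨x, hx⟩
    refine ⟨extEquiv B (P.X (i + 1)) x, ?_⟩
    rw [← LinearEquiv.apply_symm_apply (extEquiv B (P.X i)) y]
    exact (extEquiv_map B (P.d (i + 1) i) x).symm.trans (congrArg _ hx)
  · rintro ⟨x, rfl⟩
    refine ⟨(extEquiv B (P.X (i + 1))).symm x, ?_⟩
    apply (extEquiv B (P.X i)).injective
    refine (extEquiv_map B (P.d (i + 1) i) _).trans ?_
    rw [LinearEquiv.apply_symm_apply]
    exact ((extEquiv B (P.X i)).apply_symm_apply _).symm

theorem flat_op_bc (i : ℤ) [Module.Flat A (Op P i)] :
    Module.Flat B (Op (CohIII.bcCx (algebraMap A B) P) i) :=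
  Module.Flat.of_linearEquiv (opBaseChange B P i)

end Groth.Agent.FlatCx
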