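import Mathlib
import Groth.Prelude.Def_ega3
import Groth.Agent.FlatCx.ThreeTerm

/-!
Bounded above cochain complexes of flat modules.
-/

set_option autoImplicit false
set_option backward.isDefEq.respectTransparency false
set_option backward.isDefEq.respectTransparency.types false

noncomputable section

universe u

namespace Groth.Agent.FlatCx.Cochain

open CategoryTheory CategoryTheory.Limits TensorProduct

variable {A : Type u} [CommRing A] {F : CochainComplex (ModuleCat.{u} A) ℤ}

theorem flat_prod (M N : Type u) [AddCommGroup M] [Module A M] [AddCommGroup N] [Module A N]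
    [Module.Flat A M] [Module.Flat A N] : Module.Flat A (M × N) := by
  rw [Module.Flat.iff_rTensor_preserves_injective_linearMap]
  intro P Q _ _ _ _ f hf
  have e : ∀ x, (TensorProduct.prodRight A A Q M N) (f.rTensor (M × N) x) =
      Prod.map (f.rTensor M) (f.rTensor N) ((TensorProduct.prodRight A A P M N) x) := by
    intro x
    induction x using TensorProduct.induction_on with
    | zero => ext <;> simp
    | tmul p q => ext <;> simp
    | add a b ha hb => simp only [map_add, ha, hb]; ext <;> simp
  intro x y hxy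
  apply (TensorProduct.prodRight A A P M N).injective
  have := congrArg (TensorProduct.prodRight A A Q M N) hxy
  rw [e, e] at this
  exact ((Module.Flat.rTensor_preserves_injective_linearMap f hf).prodMap
    (Module.Flat.rTensor_preserves_injective_linearMap f hf)) this

theorem exact_iff_range_eq_ker (i j k : ℤ) (hij : i + 1 = j) (hjk : j + 1 = k) :
    F.ExactAt j ↔ LinearMap.range (F.d i j).hom = LinearMap.ker (F.d j k).hom := by
  rw [F.exactAt_iff' i j k (by simp; omega) (by simp; omega), ShortComplex.moduleCat_exact_iff_range_eq_ker]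
  rfl

theorem isZero_homology_iff (i j k : ℤ) (hij : i + 1 = j) (hjk : j + 1 = k) :
    IsZero (F.homology j) ↔ LinearMap.range (F.d i j).hom = LinearMap.ker (F.d j k).hom := by
  rw [← F.exactAt_iff_isZero_homology, exact_iff_range_eq_ker i j k hij hjk]

theorem flat_ker (hF : ∀ i, Module.Flat A (F.X i)) (b : ℤ) (hb : ∀ i, b < i → IsZero (F.X i))
    (d : ℤ) (hac : ∀ p, d < p → IsZero (F.homology p)) :
    ∀ p, d ≤ p → Module.Flat A (LinearMap.ker (F.d p (p + 1)).hom) := by
  have key : ∀ n : ℕ, ∀ p, d ≤ p → b < p + n → Module.Flat A (LinearMap.ker (F.d p (p + 1)).hom) := by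
    intro n
    induction n with
    | zero =>
      intro p _ hp
      haveI := ModuleCat.subsingleton_of_isZero (hb p (by simpa using hp))
      infer_instance
    | succ n ih =>
      intro p hp hpn
      have h1 := ih (p + 1) (by omega) (by push_cast at hpn ⊢; omega)
      have h2 := (isZero_homology_iff p (p + 1) (p + 1 + 1) rfl rfl).mp (hac (p + 1) (by omega))
      haveI := hF p
      haveI : Module.Flat A (F.X p ⧸ LinearMap.ker (F.d p (p + 1)).hom) :=
        Module.Flat.of_linearEquiv ((F.d p (p + 1)).hom.quotKerEquivRange ≪≫ₗ LinearEquiv.ofEq _ _ h2)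
      exact ThreeTerm.flat_submodule _
  intro p hp
  exact key (b + 1 - p).toNat p hp (by omega)

theorem tensor_acyclic (hF : ∀ i, Module.Flat A (F.X i)) (b : ℤ) (hb : ∀ i, b < i → IsZero (F.X i))
    (hac : ∀ p, IsZero (F.homology p)) (M : ModuleCat.{u} A) (n : ℤ) :
    IsZero ((CohIII.tensorObj F M).homology n) := by
  have hflat : ∀ p, Module.Flat A (LinearMap.ker (F.d p (p + 1)).hom) := fun p =>
    flat_ker hF b hb (p - 1) (fun q _ => hac q) p (by omega)
  have hrange : ∀ i j k, i + 1 = j → j + 1 = k →
      LinearMap.range (F.d i j).hom = LinearMap.ker (F.d j k).hom := fun i j k hij hjk =>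
    (isZero_homology_iff i j k hij hjk).mp (hac j)
  refine (isZero_homology_iff (n - 1) n (n + 1) (by omega) rfl).mpr (le_antisymm ?_ ?_)
  · rintro _ ⟨x, rfl⟩
    rw [LinearMap.mem_ker]
    show ((CohIII.tensorObj F M).d (n - 1) n ≫ (CohIII.tensorObj F M).d n (n + 1)).hom x = 0
    rw [HomologicalComplex.d_comp_d]; rfl
  · intro x hx
    let g := (F.d n (n + 1)).hom
    haveI : Module.Flat A (F.X (n + 1) ⧸ LinearMap.range g) := by
      haveI := hflat (n + 1 + 1)
      rw [hrange n (n + 1) (n + 1 + 1) rfl rfl]
      exact Module.Flat.of_linearEquiv ((F.d (n + 1) (n + 1 + 1)).hom.quotKerEquivRange ≪≫ₗ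
        LinearEquiv.ofEq _ _ (hrange _ _ (n + 1 + 1 + 1) rfl rfl))
    have h1 : g.rangeRestrict.rTensor M x = 0 := by
      apply ThreeTerm.rTensor_subtype_injective (LinearMap.range g) M
      rw [map_zero, ← LinearMap.comp_apply, ← LinearMap.rTensor_comp]
      exact hx
    obtain ⟨w, hw⟩ := ((rTensor_exact M (LinearMap.exact_subtype_ker_map g.rangeRestrict)
      g.surjective_rangeRestrict) x).mp h1
    let d₀ := (F.d (n - 1) n).hom
    let e : LinearMap.ker g.rangeRestrict ≃ₗ[A] LinearMap.range d₀ :=
      LinearEquiv.ofEq _ _ (by rw [g.ker_rangeRestrict]; exact (hrange (n - 1) n (n + 1) (by omega) rfl).symm)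
    obtain ⟨a, ha⟩ := LinearMap.rTensor_surjective M d₀.surjective_rangeRestrict (e.toLinearMap.rTensor M w)
    refine ⟨a, ?_⟩
    have h3 := congrArg ((LinearMap.range d₀).subtype.rTensor M) ha
    rw [← LinearMap.comp_apply, ← LinearMap.rTensor_comp, ← LinearMap.comp_apply,
      ← LinearMap.rTensor_comp] at h3
    exact h3.trans hw

theorem free_localized_quotient {V W : Type u} [AddCommGroup V] [Module A V] [AddCommGroup W]
    [Module A W] [Module.Finite A V] [Module.Finite A W] [Module.Projective A W] (g : V →ₗ[A] W)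
    (m : Ideal A) [m.IsMaximal] (h : m • ⊤ ⊓ LinearMap.range g ≤ m • LinearMap.range g) :
    Module.Free (Localization.AtPrime m) (LocalizedModule m.primeCompl (W ⧸ LinearMap.range g)) := by
  let B := Localization.AtPrime m
  let gB := g.baseChange B
  let iW := TensorProduct.mk A B W 1
  let iV := TensorProduct.mk A B V 1
  haveI : Module.Free B (B ⊗[A] W) := Module.free_of_flat_of_isLocalRing
  have hmem : ∀ y ∈ IsLocalRing.maximalIdeal B • (⊤ : Submodule B (B ⊗[A] W)),
      ∃ w ∈ m • (⊤ : Submodule A W), ∃ s : m.primeCompl, s • y = iW w := by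
    intro y hy
    refine Submodule.smul_induction_on hy (fun r hr z _ => ?_) (fun a b ha hb => ?_)
    · obtain ⟨⟨a, s⟩, hs⟩ := IsLocalization.surj m.primeCompl r
      obtain ⟨⟨w, t⟩, ht⟩ := IsLocalizedModule.surj m.primeCompl iW z
      have ha : a ∈ m := by
        have e : Ideal.comap (algebraMap A B) (IsLocalRing.maximalIdeal B) = m :=
          IsLocalization.AtPrime.comap_maximalIdeal B m
        rw [← e, Ideal.mem_comap, ← hs]
        exact Ideal.mul_mem_right _ _ hr
      refine ⟨a • w, Submodule.smul_mem_smul ha trivial, t * s, ?_⟩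
      rw [map_smul, ← ht, ← algebraMap_smul B a, ← hs, mul_smul, Submonoid.smul_def t, Submonoid.smul_def t,
        Submonoid.smul_def s, ← algebraMap_smul B (s : A) (r • z), ← mul_smul, mul_comm (algebraMap A B s),
        smul_comm]
    · obtain ⟨w, hw, s, hs⟩ := ha
      obtain ⟨w', hw', t, ht⟩ := hb
      refine ⟨(t : A) • w + (s : A) • w', add_mem (Submodule.smul_mem _ _ hw) (Submodule.smul_mem _ _ hw'),
        s * t, ?_⟩
      rw [map_add, map_smul, map_smul, ← hs, ← ht, smul_add, mul_comm s t, mul_smul t s a,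
        mul_comm t s, mul_smul s t b]
      rfl
  haveI : Module.Free B ((B ⊗[A] W) ⧸ LinearMap.range gB) := by
    refine ThreeTerm.free_of_inf_le ?_
    rintro _ ⟨hy, ⟨z, rfl⟩⟩
    obtain ⟨⟨v, s⟩, hs⟩ := IsLocalizedModule.surj m.primeCompl iV z
    obtain ⟨w, hw, t, ht⟩ := hmem _ (Submodule.smul_mem _ (algebraMap A B s) hy)
    have e1 : iW (g ((t : A) • v)) = iW w := by
      rw [← ht, map_smul, map_smul]
      show (t : A) • gB (iV v) = t • (algebraMap A B s • gB z)
      rw [← hs, Submonoid.smul_def, Submonoid.smul_def, LinearMap.map_smul_of_tower, algebraMap_smul]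
    obtain ⟨c, hc⟩ := IsLocalizedModule.exists_of_eq (S := m.primeCompl) (f := iW) e1
    have hcw : g (((c : A) * t) • v) ∈ m • LinearMap.range g := by
      refine h ⟨?_, ⟨_, rfl⟩⟩
      rw [mul_smul, map_smul]
      exact (show (c : A) • g ((t : A) • v) = (c : A) • w from hc) ▸ Submodule.smul_mem _ _ hw
    have key : ∀ y ∈ m • LinearMap.range g,
        iW y ∈ IsLocalRing.maximalIdeal B • LinearMap.range gB := by
      intro y hy
      refine Submodule.smul_induction_on hy (fun a ha n hn => ?_) (fun a b ha hb => by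
        rw [map_add]; exact add_mem ha hb)
      obtain ⟨u, rfl⟩ := hn
      rw [map_smul, ← algebraMap_smul B a]
      refine Submodule.smul_mem_smul ?_ ⟨iV u, rfl⟩
      rw [← Localization.AtPrime.map_eq_maximalIdeal]
      exact Ideal.mem_map_of_mem _ ha
    have h2 := key _ hcw
    have e2 : iW (g (((c : A) * t) • v)) = algebraMap A B ((c : A) * t * s) • gB z := by
      rw [algebraMap_smul, map_smul, map_smul]
      show ((c : A) * t) • gB (iV v) = _
      rw [← hs, Submonoid.smul_def, LinearMap.map_smul_of_tower, ← mul_smul]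
    rw [e2] at h2
    have hu : IsUnit (algebraMap A B ((c : A) * t * s)) :=
      IsLocalization.map_units B (c * t * s : m.primeCompl)
    exact (Submodule.smul_mem_iff_of_isUnit _ hu).mp h2
  have hex : Function.Exact gB ((LinearMap.range g).mkQ.baseChange B) :=
    lTensor_exact B (LinearMap.exact_map_mkQ_range g) (Submodule.mkQ_surjective _)
  exact Module.Free.of_equiv (Submodule.quotEquivOfEq _ _ hex.linearMap_ker_eq.symm ≪≫ₗ
    (((LinearMap.range g).mkQ.baseChange B).quotKerEquivOfSurjective
      (LinearMap.lTensor_surjective B (Submodule.mkQ_surjective _))) ≪≫ₗ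
    (LocalizedModule.equivTensorProduct m.primeCompl _).symm)

end Groth.Agent.FlatCx.Cochain
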