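import Mathlib
import Groth.Agent.FlatCx.BaseChange
import Groth.Agent.FlatCx.Exact

/-!
Fibre dimensions and the rank function `dRank`.
-/

set_option autoImplicit false
set_option backward.isDefEq.respectTransparency false
set_option backward.isDefEq.respectTransparency.types false

noncomputable section

universe u

namespace Groth.Agent.FlatCx

open CategoryTheory CategoryTheory.Limits TensorProduct MonoidalCategory

variable {A : Type u} [CommRing A]

/-- dimension of the fibre of a module -/
def cDim (M : Type u) [AddCommGroup M] [Module A M] (x : PrimeSpectrum A) : ℕ :=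
  Module.finrank x.asIdeal.ResidueField (x.asIdeal.ResidueField ⊗[A] M)

variable (M : Type u) [AddCommGroup M] [Module A M]

theorem cDim_congr {N : Type u} [AddCommGroup N] [Module A N] (e : M ≃ₗ[A] N) (x : PrimeSpectrum A) :
    cDim M x = cDim N x :=
  (AlgebraTensorModule.congr (LinearEquiv.refl x.asIdeal.ResidueField _) e).finrank_eq

theorem cDim_eq_rankAtStalk [Module.Finite A M] [Module.Flat A M] (x : PrimeSpectrum A) :
    cDim M x = Module.rankAtStalk M x := (Module.rankAtStalk_eq x).symm

theorem isLocallyConstant_cDim [Module.FinitePresentation A M] [Module.Flat A M] :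
    IsLocallyConstant (cDim (A := A) M) := by
  rw [show cDim (A := A) M = Module.rankAtStalk M from funext (cDim_eq_rankAtStalk M)]
  exact Module.isLocallyConstant_rankAtStalk

theorem subsingleton_tensor_quotient_iff {ι : Type*} (v : ι → M) (K : Type u) [Field K] [Algebra A K] :
    Subsingleton (K ⊗[A] (M ⧸ Submodule.span A (Set.range v))) ↔
      Submodule.span K (Set.range fun i => (1 : K) ⊗ₜ[A] v i) = ⊤ := by
  let N := Submodule.span A (Set.range v)
  have hex : Function.Exact (N.subtype.baseChange K) (N.mkQ.baseChange K) :=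
    lTensor_exact K (LinearMap.exact_subtype_mkQ N) (Submodule.mkQ_surjective _)
  have hs : Function.Surjective (N.mkQ.baseChange K) :=
    LinearMap.lTensor_surjective K (Submodule.mkQ_surjective _)
  have hr : LinearMap.range (N.subtype.baseChange K) =
      Submodule.span K (Set.range fun i => (1 : K) ⊗ₜ[A] v i) := by
    apply le_antisymm
    · rintro _ ⟨y, rfl⟩
      induction y using TensorProduct.induction_on with
      | zero => simp
      | add a b ha hb => rw [map_add]; exact add_mem ha hb
      | tmul c n =>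
        obtain ⟨n, hn⟩ := n
        rw [LinearMap.baseChange_tmul]
        show c ⊗ₜ[A] n ∈ _
        rw [show c ⊗ₜ[A] n = c • ((1 : K) ⊗ₜ[A] n) by rw [TensorProduct.smul_tmul', smul_eq_mul, mul_one]]
        refine Submodule.smul_mem _ c ?_
        induction hn using Submodule.span_induction with
        | mem n hn => obtain ⟨i, rfl⟩ := hn; exact Submodule.subset_span ⟨i, rfl⟩
        | zero => simp
        | add a b _ _ ha hb => rw [TensorProduct.tmul_add]; exact add_mem ha hb
        | smul r a _ ha =>
          rw [TensorProduct.tmul_smul, ← algebraMap_smul K r ((1 : K) ⊗ₜ[A] a)]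
          exact Submodule.smul_mem _ _ ha
    · rw [Submodule.span_le]
      rintro _ ⟨i, rfl⟩
      exact ⟨(1 : K) ⊗ₜ[A] ⟨v i, Submodule.subset_span ⟨i, rfl⟩⟩, rfl⟩
  rw [← hr, ← hex.linearMap_ker_eq]
  constructor
  · intro h
    exact Submodule.eq_top_iff'.mpr fun y => Subsingleton.elim _ _
  · intro h
    refine subsingleton_of_forall_eq 0 fun y => ?_
    obtain ⟨y, rfl⟩ := hs y
    exact (Submodule.eq_top_iff'.mp h y :)

theorem exists_generators [Module.Finite A M] (x : PrimeSpectrum A) :
    ∃ v : Fin (cDim M x) → M, x ∉ Module.support A (M ⧸ Submodule.span A (Set.range v)) := by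
  let K := x.asIdeal.ResidueField
  let S : Set (K ⊗[A] M) := Set.range fun m : M => (1 : K) ⊗ₜ[A] m
  have hS : Submodule.span K S = ⊤ := by
    rw [eq_top_iff]
    rintro y -
    induction y using TensorProduct.induction_on with
    | zero => simp
    | add a b ha hb => exact add_mem ha hb
    | tmul c m =>
      rw [show c ⊗ₜ[A] m = c • ((1 : K) ⊗ₜ[A] m) by rw [TensorProduct.smul_tmul', smul_eq_mul, mul_one]]
      exact Submodule.smul_mem _ c (Submodule.subset_span ⟨m, rfl⟩)
  obtain ⟨t, hts, htspan, hli⟩ := exists_linearIndependent K S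
  have hb := Module.Basis.mk hli (by simp only [Subtype.range_coe_subtype, Set.setOf_mem_eq, htspan, hS, le_refl])
  haveI : Fintype t := (hli.setFinite).fintype
  have hcard : Fintype.card t = cDim M x := (Module.finrank_eq_card_basis hb).symm
  let e := (Fintype.equivFinOfCardEq hcard).symm
  choose v hv using fun i => hts (e i).2
  refine ⟨v, ?_⟩
  rw [Module.mem_support_iff_nontrivial_residueField_tensorProduct, not_nontrivial_iff_subsingleton,
    subsingleton_tensor_quotient_iff, eq_top_iff, ← hS, ← htspan, Submodule.span_le]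
  intro y hy
  refine Submodule.subset_span ⟨e.symm ⟨y, hy⟩, ?_⟩
  show (1 : K) ⊗ₜ[A] v _ = y
  exact (hv _).trans (congrArg Subtype.val (e.apply_symm_apply ⟨y, hy⟩))

theorem span_eq_top_of_notMem_support [Module.Finite A M] {ι : Type*} (v : ι → M) (y : PrimeSpectrum A)
    (hy : y ∉ Module.support A (M ⧸ Submodule.span A (Set.range v))) :
    Submodule.span y.asIdeal.ResidueField
      (Set.range fun i => (1 : y.asIdeal.ResidueField) ⊗ₜ[A] v i) = ⊤ := by
  rwa [Module.mem_support_iff_nontrivial_residueField_tensorProduct, not_nontrivial_iff_subsingleton,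
    subsingleton_tensor_quotient_iff] at hy

theorem isOpen_cDim_le [Module.Finite A M] (r : ℕ) : IsOpen {x : PrimeSpectrum A | cDim M x ≤ r} := by
  refine isOpen_iff_forall_mem_open.mpr fun x hx => ?_
  obtain ⟨v, hv⟩ := exists_generators M x
  refine ⟨(Module.support A (M ⧸ Submodule.span A (Set.range v)))ᶜ, fun y hy => ?_,
    Module.isClosed_support.isOpen_compl, hv⟩
  show cDim M y ≤ r
  have h := span_eq_top_of_notMem_support M v y hy
  rw [cDim, ← finrank_top, ← h]
  exact (finrank_range_le_card _).trans (by simpa using hx)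

theorem cDim_baseChange (B : Type u) [CommRing B] [Algebra A B] (x' : PrimeSpectrum B) :
    cDim (B ⊗[A] M) x' = cDim M (x'.comap (algebraMap A B)) := by
  let x : PrimeSpectrum A := x'.comap (algebraMap A B)
  let k := x.asIdeal.ResidueField
  let k' := x'.asIdeal.ResidueField
  letI : Algebra k k' := (Ideal.ResidueField.map x.asIdeal x'.asIdeal (algebraMap A B) rfl).toAlgebra
  haveI : IsScalarTower A k k' := IsScalarTower.of_algebraMap_eq fun a => by
    show _ = Ideal.ResidueField.map x.asIdeal x'.asIdeal (algebraMap A B) rfl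
      (algebraMap A x.asIdeal.ResidueField a)
    rw [Ideal.ResidueField.map_algebraMap, ← IsScalarTower.algebraMap_apply]
  let e : k' ⊗[B] (B ⊗[A] M) ≃ₗ[k'] k' ⊗[k] (k ⊗[A] M) :=
    AlgebraTensorModule.cancelBaseChange A B k' k' M ≪≫ₗ
      (AlgebraTensorModule.cancelBaseChange A k k' k' M).symm
  exact e.finrank_eq.trans Module.finrank_baseChange

theorem free_of_cDim_minimal [IsLocalRing A] [IsReduced A] [Module.Finite A M]
    (h : ∀ q : PrimeSpectrum A, q.asIdeal ∈ minimalPrimes A →
      cDim M q = cDim M (IsLocalRing.closedPoint A)) : Module.Free A M := by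
  obtain ⟨v, hv⟩ := exists_generators M (IsLocalRing.closedPoint A)
  let Q := M ⧸ Submodule.span A (Set.range v)
  have hQ : ∀ y, y ∉ Module.support A Q := fun y hy =>
    hv ((IsLocalRing.specializes_closedPoint y).mem_closed Module.isClosed_support hy)
  have hspan : Submodule.span A (Set.range v) = ⊤ := by
    haveI : Subsingleton Q := (Module.support_eq_empty_iff (R := A)).mp
      (Set.eq_empty_of_forall_notMem hQ)
    exact Submodule.Quotient.subsingleton_iff.mp this
  have hli : LinearIndependent A v := by
    rw [Fintype.linearIndependent_iff]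
    intro a ha i
    refine IsReduced.eq_zero _ ?_
    rw [nilpotent_iff_mem_prime]
    intro p hp
    obtain ⟨q, hq, hqp⟩ := Ideal.exists_minimalPrimes_le (bot_le : (⊥ : Ideal A) ≤ p)
    refine hqp ?_
    haveI := hq.1.1
    let x : PrimeSpectrum A := ⟨q, hq.1.1⟩
    have hsp := span_eq_top_of_notMem_support M v x (hQ x)
    have hlx := linearIndependent_of_top_le_span_of_card_eq_finrank hsp.ge
      (by rw [Fintype.card_fin]; exact (h x hq).symm)
    have h0 := Fintype.linearIndependent_iff.mp hlx (fun j => algebraMap A _ (a j)) (by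
      simp only [algebraMap_smul, ← TensorProduct.tmul_smul, ← TensorProduct.tmul_sum, ha,
        TensorProduct.tmul_zero]) i
    exact Ideal.algebraMap_residueField_eq_zero.mp h0
  exact Module.Free.of_basis (Module.Basis.mk hli hspan.ge)

theorem finrank_homology_add {k : Type u} [Field k] (Q : ChainComplex (ModuleCat.{u} k) ℤ) (p q : ℤ)
    (hq : q + 1 = p) [Module.Finite k (Q.X p)] [Module.Finite k (Q.X q)] :
    Module.finrank k (Q.homology p) + Module.finrank k (Q.X q) =
      Module.finrank k (Op Q p) + Module.finrank k (Op Q q) := by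
  subst hq
  have h1 := (opD (P := Q) (q + 1) q).finrank_range_add_finrank_ker
  have h2 := (LinearMap.range (Q.d (q + 1) q).hom).finrank_quotient_add_finrank
  rw [range_opD, (kerOpDEquiv (P := Q) (q + 1) q rfl).finrank_eq] at h1
  show _ = _ + Module.finrank k (Q.X q ⧸ LinearMap.range (Q.d (q + 1) q).hom)
  omega

variable (P : ChainComplex (ModuleCat.{u} A) ℤ)

theorem dRank_add (p q : ℤ) (hq : q + 1 = p) [Module.Finite A (P.X p)] [Module.Finite A (P.X q)]
    (x : PrimeSpectrum A) :
    CohIII.dRank P p x + cDim (P.X q) x = cDim (Op P p) x + cDim (Op P q) x := by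
  let k := x.asIdeal.ResidueField
  haveI := bc_finite k P p
  haveI := bc_finite k P q
  have h := finrank_homology_add (CohIII.bcCx (algebraMap A k) P) p q hq
  have e : Module.finrank k ((CohIII.bcCx (algebraMap A k) P).X q) = cDim (P.X q) x :=
    (extEquiv k (P.X q)).finrank_eq
  rw [e, (opBaseChange k P p).finrank_eq,
    (opBaseChange k P q).finrank_eq] at h
  exact h

theorem finitePresentation_op (i : ℤ) [Module.Finite A (P.X (i + 1))]
    [Module.FinitePresentation A (P.X i)] : Module.FinitePresentation A (Op P i) :=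
  Module.finitePresentation_of_surjective _ (Submodule.mkQ_surjective _)
    (by rw [Submodule.ker_mkQ, LinearMap.range_eq_map]; exact Module.Finite.fg_top.map _)

theorem isOpen_dRank_le (hP : ∀ i, Module.Finite A (P.X i)) (p : ℤ)
    (hn : IsLocallyConstant (cDim (A := A) (P.X (p - 1)))) (r : ℕ) :
    IsOpen {x : PrimeSpectrum A | CohIII.dRank P p x ≤ r} := by
  haveI := hP p
  haveI := hP (p - 1)
  refine isOpen_iff_forall_mem_open.mpr fun x hx => ?_
  refine ⟨{y | cDim (P.X (p - 1)) y = cDim (P.X (p - 1)) x} ∩
      {y | cDim (Op P p) y ≤ cDim (Op P p) x} ∩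
      {y | cDim (Op P (p - 1)) y ≤ cDim (Op P (p - 1)) x},
    fun y hy => ?_, (((hn.isOpen_fiber _).inter (isOpen_cDim_le _ _)).inter (isOpen_cDim_le _ _)),
    ⟨⟨rfl, le_rfl (a := cDim (Op P p) x)⟩, le_rfl (a := cDim (Op P (p - 1)) x)⟩⟩
  obtain ⟨⟨h1, h2⟩, h3⟩ := hy
  have e := dRank_add P p (p - 1) (by omega) x
  have e' := dRank_add P p (p - 1) (by omega) y
  simp only [Set.mem_setOf_eq] at *
  omega

theorem isLocallyConstant_dRank_of_flat (p q : ℤ) (hq : q + 1 = p)
    [Module.Finite A (P.X p)] [Module.Finite A (P.X q)]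
    [Module.FinitePresentation A (Op P p)] [Module.Flat A (Op P p)]
    [Module.FinitePresentation A (Op P q)] [Module.Flat A (Op P q)]
    (hn : IsLocallyConstant (cDim (A := A) (P.X q))) :
    IsLocallyConstant (CohIII.dRank P p) := by
  have e : CohIII.dRank P p = fun x => cDim (Op P p) x + cDim (Op P q) x - cDim (P.X q) x :=
    funext fun x => by have := dRank_add P p q hq x; omega
  rw [e]
  exact ((isLocallyConstant_cDim (Op P p)).comp₂ (isLocallyConstant_cDim (Op P q)) (· + ·)).comp₂ hn
    (· - ·)

theorem flat_op_of_const {P : ChainComplex (ModuleCat.{u} A) ℤ} [IsLocalRing A] [IsReduced A]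
    (hfin : ∀ i, Module.Finite A (P.X i)) (p q : ℤ) (hq : q + 1 = p)
    (hn : ∀ x, cDim (A := A) (P.X q) x = cDim (P.X q) (IsLocalRing.closedPoint A))
    (h : ∀ x : PrimeSpectrum A, x.asIdeal ∈ minimalPrimes A →
      CohIII.dRank P p x = CohIII.dRank P p (IsLocalRing.closedPoint A)) :
    Module.Free A (Op P p) ∧ Module.Free A (Op P q) := by
  haveI := hfin p
  haveI := hfin q
  have key : ∀ x : PrimeSpectrum A, x.asIdeal ∈ minimalPrimes A →
      cDim (Op P p) x = cDim (Op P p) (IsLocalRing.closedPoint A) ∧
      cDim (Op P q) x = cDim (Op P q) (IsLocalRing.closedPoint A) := by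
    intro x hx
    have s1 : cDim (Op P p) x ≤ cDim (Op P p) (IsLocalRing.closedPoint A) :=
      (IsLocalRing.specializes_closedPoint x).mem_open (isOpen_cDim_le (Op P p) _)
        (le_rfl (a := cDim (Op P p) (IsLocalRing.closedPoint A)))
    have s2 : cDim (Op P q) x ≤ cDim (Op P q) (IsLocalRing.closedPoint A) :=
      (IsLocalRing.specializes_closedPoint x).mem_open (isOpen_cDim_le (Op P q) _)
        (le_rfl (a := cDim (Op P q) (IsLocalRing.closedPoint A)))
    have e1 := dRank_add P p q hq x
    have e2 := dRank_add P p q hq (IsLocalRing.closedPoint A)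
    rw [hn x, h x hx] at e1
    omega
  exact ⟨free_of_cDim_minimal _ fun x hx => (key x hx).1,
    free_of_cDim_minimal _ fun x hx => (key x hx).2⟩

theorem cDim_const_of_flat [IsLocalRing A] [Module.Finite A M] [Module.Flat A M] (x : PrimeSpectrum A) :
    cDim M x = cDim M (IsLocalRing.closedPoint A) := by
  rw [cDim_eq_rankAtStalk, cDim_eq_rankAtStalk]
  exact Module.rankAtStalk_eq_of_le_of_finite_of_flat M
    (IsLocalRing.le_maximalIdeal x.2.ne_top)

end Groth.Agent.FlatCx
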