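import Mathlib
import Groth.Agent.FlatCx.Rank

/-!
Localisation, loci of exactness and residue criteria for `T_p`.
-/

set_option autoImplicit false
set_option backward.isDefEq.respectTransparency false
set_option backward.isDefEq.respectTransparency.types false

noncomputable section

universe u

namespace Groth.Agent.FlatCx

open CategoryTheory CategoryTheory.Limits TensorProduct MonoidalCategory

variable {A : Type u} [CommRing A] {P : ChainComplex (ModuleCat.{u} A) ℤ}

theorem preservesEpimorphisms_bc (B : Type u) [CommRing B] [Algebra A B]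
    (hP : ∀ i, Module.Flat A (P.X i)) (p : ℤ) (h : (CohIII.TFun P p).PreservesEpimorphisms) :
    (CohIII.TFun (CohIII.bcCx (algebraMap A B) P) p).PreservesEpimorphisms := by
  haveI := (preservesEpimorphisms_iff hP p (p - 1) (by omega)).mp h
  exact (preservesEpimorphisms_iff (bc_flat B P hP) p (p - 1) (by omega)).mpr (flat_op_bc B P (p - 1))

theorem preservesMonomorphisms_bc (B : Type u) [CommRing B] [Algebra A B]
    (hP : ∀ i, Module.Flat A (P.X i)) (p : ℤ) (h : (CohIII.TFun P p).PreservesMonomorphisms) :
    (CohIII.TFun (CohIII.bcCx (algebraMap A B) P) p).PreservesMonomorphisms := by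
  haveI := (preservesMonomorphisms_iff hP p).mp h
  exact (preservesMonomorphisms_iff (bc_flat B P hP) p).mpr (flat_op_bc B P p)

theorem dRank_bc (hP : ∀ i, Module.Finite A (P.X i)) (B : Type u) [CommRing B] [Algebra A B] (p : ℤ)
    (x' : PrimeSpectrum B) :
    CohIII.dRank (CohIII.bcCx (algebraMap A B) P) p x' =
      CohIII.dRank P p (x'.comap (algebraMap A B)) := by
  haveI := hP p
  haveI := hP (p - 1)
  haveI := bc_finite B P p
  haveI := bc_finite B P (p - 1)
  have e1 := dRank_add (CohIII.bcCx (algebraMap A B) P) p (p - 1) (by omega) x'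
  have e2 := dRank_add P p (p - 1) (by omega) (x'.comap (algebraMap A B))
  rw [cDim_congr _ (opBaseChange B P p), cDim_congr _ (opBaseChange B P (p - 1)),
    show cDim ((CohIII.bcCx (algebraMap A B) P).X (p - 1)) x' = cDim (B ⊗[A] P.X (p - 1)) x' from
      cDim_congr _ (extEquiv B (P.X (p - 1))) x',
    cDim_baseChange, cDim_baseChange, cDim_baseChange] at e1
  omega

theorem flat_op_localization_iff (x : PrimeSpectrum A) (i : ℤ) :
    Module.Flat (Localization.AtPrime x.asIdeal)
        (Op (CohIII.bcCx (algebraMap A (Localization.AtPrime x.asIdeal)) P) i) ↔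
      Module.Flat (Localization.AtPrime x.asIdeal) (LocalizedModule x.asIdeal.primeCompl (Op P i)) :=
  Module.Flat.equiv_iff ((opBaseChange _ P i) ≪≫ₗ
    (LocalizedModule.equivTensorProduct x.asIdeal.primeCompl (Op P i)).symm)

theorem flat_op_localization_iff_mem_freeLocus (x : PrimeSpectrum A) (i : ℤ)
    [Module.Finite A (P.X i)] :
    Module.Flat (Localization.AtPrime x.asIdeal)
        (Op (CohIII.bcCx (algebraMap A (Localization.AtPrime x.asIdeal)) P) i) ↔
      x ∈ Module.freeLocus A (Op P i) := by
  rw [flat_op_localization_iff]
  haveI : Module.Finite (Localization.AtPrime x.asIdeal)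
      (LocalizedModule x.asIdeal.primeCompl (Op P i)) :=
    Module.Finite.of_isLocalizedModule x.asIdeal.primeCompl
      (LocalizedModule.mkLinearMap x.asIdeal.primeCompl (Op P i))
  exact ⟨fun _ => Module.free_of_flat_of_isLocalRing, fun h => by
    haveI : Module.Free _ _ := h
    exact Module.Flat.of_free⟩

theorem isOpen_preservesEpimorphisms_locus [IsNoetherianRing A]
    (hP : ∀ i, Module.Finite A (P.X i) ∧ Module.Flat A (P.X i)) (p : ℤ) :
    IsOpen {y : PrimeSpectrum A | (CohIII.TFun
      (CohIII.bcCx (algebraMap A (Localization.AtPrime y.asIdeal)) P) p).PreservesEpimorphisms} := by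
  haveI := (hP (p - 1)).1
  haveI : Module.FinitePresentation A (Op P (p - 1)) := Module.finitePresentation_of_finite _ _
  convert Module.isOpen_freeLocus (R := A) (M := Op P (p - 1)) using 1
  ext y
  exact (preservesEpimorphisms_iff (bc_flat _ P fun i => (hP i).2) p (p - 1) (by omega)).trans
    (flat_op_localization_iff_mem_freeLocus y (p - 1))

theorem isOpen_preservesMonomorphisms_locus [IsNoetherianRing A]
    (hP : ∀ i, Module.Finite A (P.X i) ∧ Module.Flat A (P.X i)) (p : ℤ) :
    IsOpen {y : PrimeSpectrum A | (CohIII.TFun
      (CohIII.bcCx (algebraMap A (Localization.AtPrime y.asIdeal)) P) p).PreservesMonomorphisms} := by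
  haveI := (hP p).1
  haveI : Module.FinitePresentation A (Op P p) := Module.finitePresentation_of_finite _ _
  convert Module.isOpen_freeLocus (R := A) (M := Op P p) using 1
  ext y
  exact (preservesMonomorphisms_iff (bc_flat _ P fun i => (hP i).2) p).trans
    (flat_op_localization_iff_mem_freeLocus y p)

theorem exact_of_isLocallyConstant [IsReduced A]
    (hP : ∀ i, Module.Finite A (P.X i) ∧ Module.Flat A (P.X i)) (p : ℤ)
    (h : IsLocallyConstant (CohIII.dRank P p)) :
    Module.Flat A (Op P p) ∧ Module.Flat A (Op P (p - 1)) := by
  have key : ∀ m : Ideal A, ∀ [m.IsMaximal],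
      Module.Flat A (LocalizedModule m.primeCompl (Op P p)) ∧
      Module.Flat A (LocalizedModule m.primeCompl (Op P (p - 1))) := by
    intro m _
    let x : PrimeSpectrum A := ⟨m, inferInstance⟩
    let B := Localization.AtPrime x.asIdeal
    haveI : IsReduced B := isReduced_localizationPreserves x.asIdeal.primeCompl B inferInstance
    have hf : ∀ i, Module.Finite B ((CohIII.bcCx (algebraMap A B) P).X i) := fun i => by
      haveI := (hP i).1
      exact bc_finite B P i
    have h2 := flat_op_of_const (P := CohIII.bcCx (algebraMap A B) P) hf p (p - 1) (by omega)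
      (fun y => by
        haveI := hf (p - 1)
        haveI := bc_flat B P (fun i => (hP i).2) (p - 1)
        exact cDim_const_of_flat _ y)
      fun y _ => by
        rw [dRank_bc (fun i => (hP i).1), dRank_bc (fun i => (hP i).1)]
        exact ((IsLocalRing.specializes_closedPoint y).map
          (PrimeSpectrum.continuous_comap (algebraMap A B))).mem_open (h.isOpen_fiber _) rfl
    haveI : Module.Flat B (Op (CohIII.bcCx (algebraMap A B) P) p) := by
      haveI := h2.1; exact Module.Flat.of_free
    haveI : Module.Flat B (Op (CohIII.bcCx (algebraMap A B) P) (p - 1)) := by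
      haveI := h2.2; exact Module.Flat.of_free
    constructor
    · haveI := (flat_op_localization_iff (P := P) x p).mp inferInstance
      haveI : Module.Flat A B := IsLocalization.flat B x.asIdeal.primeCompl
      exact Module.Flat.trans A B _
    · haveI := (flat_op_localization_iff (P := P) x (p - 1)).mp inferInstance
      haveI : Module.Flat A B := IsLocalization.flat B x.asIdeal.primeCompl
      exact Module.Flat.trans A B _
  exact ⟨Module.flat_of_localized_maximal _ fun m hm => (@key m hm).1,
    Module.flat_of_localized_maximal _ fun m hm => (@key m hm).2⟩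

end Groth.Agent.FlatCx
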